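import Mathlib

/-!
# Involutions over a central subgroup of order three
-/

set_option autoImplicit false

namespace CfsgLib.Recog.SymNine.Emb

universe u v

variable {D : Type u} [Group D] {K : Type v} [Group K]

/-- `π` is surjective with central kernel of exponent three. -/
structure ThreeCover (π : D →* K) : Prop where
  surj : Function.Surjective π
  comm : ∀ z, π z = 1 → ∀ d, z * d = d * z
  cube : ∀ z, π z = 1 → z * z * z = 1

variable {π : D →* K} (T : ThreeCover π)
include T

theorem ThreeCover.invol_eq {x y : D} (hx : x * x = 1) (hy : y * y = 1) (h : π x = π y) :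
    x = y := by
  have hz : π (y⁻¹ * x) = 1 := by rw [map_mul, map_inv, h, inv_mul_cancel]
  have hc := T.comm _ hz y
  have h2 : (y⁻¹ * x) * (y⁻¹ * x) = 1 := by
    calc (y⁻¹ * x) * (y⁻¹ * x) = y⁻¹ * ((y * (y⁻¹ * x)) * (y⁻¹ * x)) := by group
      _ = y⁻¹ * (((y⁻¹ * x) * y) * (y⁻¹ * x)) := by rw [hc]
      _ = y⁻¹ * (y⁻¹ * (x * x)) := by group
      _ = (y * y)⁻¹ := by rw [hx, mul_one, mul_inv_rev]
      _ = 1 := by rw [hy, inv_one]
  have h3 := T.cube _ hz
  rw [h2, one_mul] at h3
  exact (inv_mul_eq_one.1 h3).symm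

theorem ThreeCover.exists_invol {c : K} (hc : c * c = 1) : ∃ x, π x = c ∧ x * x = 1 := by
  obtain ⟨x, rfl⟩ := T.surj c
  refine ⟨x * (x * x), by rw [map_mul, map_mul, hc, mul_one], ?_⟩
  have := T.cube (x * x) (by rwa [map_mul])
  calc x * (x * x) * (x * (x * x)) = x * x * (x * x) * (x * x) := by group
    _ = 1 := this

theorem ThreeCover.commute {x y : D} (hx : x * x = 1) (hy : y * y = 1)
    (h : π x * π y = π y * π x) : Commute x y := by
  have e : y * x * y = x := T.invol_eq (by
    calc y * x * y * (y * x * y) = y * (x * (y * y) * x) * y := by group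
      _ = 1 := by rw [hy, mul_one, hx, mul_one, hy]) hx (by
    rw [map_mul, map_mul, mul_assoc, h, ← mul_assoc, ← map_mul π y y, hy, map_one, one_mul])
  show x * y = y * x
  conv_lhs => rw [← e]
  rw [mul_assoc, hy, mul_one]

theorem ThreeCover.braid {x y : D} (hx : x * x = 1) (hy : y * y = 1)
    (h : (π x * π y) * (π x * π y) * (π x * π y) = 1) : (x * y) ^ 3 = 1 := by
  set w := (x * y) * (x * y) * (x * y) with hw
  have hxi : x⁻¹ = x := inv_eq_of_mul_eq_one_right hx
  have hyi : y⁻¹ = y := inv_eq_of_mul_eq_one_right hy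
  have hπ : π w = 1 := by simp only [hw, map_mul]; exact h
  have h1 : x * w * x⁻¹ = w := by
    rw [← T.comm w hπ x]; group
  have h2 : x * w * x⁻¹ = w⁻¹ := by
    rw [hxi, hw]
    simp only [mul_inv_rev, hxi, hyi, ← mul_assoc, hx, one_mul]
  have hsq : w * w = 1 := by
    rw [h2] at h1
    calc w * w = w⁻¹ * w := by rw [h1]
      _ = 1 := inv_mul_cancel w
  have h3 := T.cube w hπ
  rw [hsq, one_mul] at h3
  rw [pow_succ, pow_two, ← hw]
  exact h3

end CfsgLib.Recog.SymNine.Emb
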