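import Mathlib

/-!
# Configurations of transpositions in `S₆`
-/

set_option autoImplicit false

namespace CfsgLib.Recog.SymNine.Emb

open Equiv

/-- The symmetric group on two blocks of three points. -/
abbrev S6 := Perm (Fin 6)

/-- the two halves of a configuration -/
def Quad (A B A' B' : S6) : Prop :=
  A * A = 1 ∧ B * B = 1 ∧ A' * A' = 1 ∧ B' * B' = 1 ∧ A ≠ B ∧ A' ≠ B' ∧
    (A * B) * (A * B) * (A * B) = 1 ∧ (A' * B') * (A' * B') * (A' * B') = 1 ∧
    A * A' = A' * A ∧ A * B' = B' * A ∧ B * A' = A' * B ∧ B * B' = B' * B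

/-- the linking involution of a configuration -/
def Link (A B A' B' c : S6) : Prop :=
  c * c = 1 ∧ c * A = A * c ∧ c * B' = B' * c ∧ (c * B) * (c * B) * (c * B) = 1 ∧
    (c * A') * (c * A') * (c * A') = 1

instance (A B A' B' : S6) : Decidable (Quad A B A' B') := by unfold Quad; infer_instance
instance (A B A' B' c : S6) : Decidable (Link A B A' B' c) := by unfold Link; infer_instance

/-- representatives of the three classes of involutions -/
def reps : List S6 :=
  [swap 0 1, swap 0 1 * swap 2 3, swap 0 1 * swap 2 3 * swap 4 5]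

/-- all elements, in a list -/
def allSix : List S6 :=
  (List.range 720).map fun n =>
    swap (0 : Fin 6) (Fin.ofNat 6 (n % 6)) *
      swap 1 (Fin.ofNat 6 (1 + n / 6 % 5)) *
      swap 2 (Fin.ofNat 6 (2 + n / 30 % 4)) *
      swap 3 (Fin.ofNat 6 (3 + n / 120 % 3)) *
      swap 4 (Fin.ofNat 6 (4 + n / 360 % 2))

/-- all elements of square one, in a list -/
def sqOne : List S6 := allSix.filter fun p => decide (p * p = 1)

theorem mem_sqOne : ∀ p : S6, p * p = 1 → p ∈ sqOne := by decide +kernel

theorem rep_conj : ∀ p ∈ sqOne, p = 1 ∨ ∃ g ∈ allSix, g * p * g⁻¹ ∈ reps := by decide +kernel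

/-- the check at the representatives -/
def linkCheck : Bool :=
  reps.all fun A => (sqOne.filter fun B => decide (A ≠ B) && decide ((A * B) * (A * B) * (A * B) = 1)).all fun B =>
    let cm := sqOne.filter fun X => decide (A * X = X * A) && decide (B * X = X * B)
    cm.all fun A' => cm.all fun B' =>
      if decide (A' ≠ B') && decide ((A' * B') * (A' * B') * (A' * B') = 1) then
        (sqOne.filter fun c => decide (Link A B A' B' c)).length == 1 else true

theorem linkCheck_eq : linkCheck = true := by decide +kernel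

theorem link_rep {A B A' B' : S6} (hA : A ∈ reps) (h : Quad A B A' B') :
    ∃ c, Link A B A' B' c ∧ ∀ c', Link A B A' B' c' → c' = c := by
  obtain ⟨-, b2, a2', b2', hne, hne', hb, hb', h1, h2, h3, h4⟩ := h
  have hc := linkCheck_eq
  have hm := mem_sqOne
  unfold linkCheck at hc
  generalize sqOne = L at hc hm
  simp only [List.all_eq_true, List.mem_filter, Bool.and_eq_true,
    decide_eq_true_eq] at hc
  have hlen := hc A hA B ⟨hm _ b2, hne, hb⟩ A' ⟨hm _ a2', h1, h3⟩ B'
    ⟨hm _ b2', h2, h4⟩
  rw [if_pos ⟨hne', hb'⟩, beq_iff_eq, List.length_eq_one_iff] at hlen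
  obtain ⟨c, hc⟩ := hlen
  have hmem : ∀ d, Link A B A' B' d ↔ d = c := fun d => by
    constructor
    · intro hd
      have : d ∈ L.filter fun c => decide (Link A B A' B' c) :=
        List.mem_filter.2 ⟨hm _ hd.1, decide_eq_true hd⟩
      rwa [hc, List.mem_singleton] at this
    · rintro rfl
      have : d ∈ L.filter fun c => decide (Link A B A' B' c) := by rw [hc]; simp
      exact of_decide_eq_true (List.mem_filter.1 this).2
  exact ⟨c, (hmem c).2 rfl, fun d hd => (hmem d).1 hd⟩

theorem link_map {f : S6 →* S6} {A B A' B' c : S6} (h : Link A B A' B' c) :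
    Link (f A) (f B) (f A') (f B') (f c) := by
  obtain ⟨h1, h2, h3, h4, h5⟩ := h
  refine ⟨?_, ?_, ?_, ?_, ?_⟩
  · rw [← map_mul, h1, map_one]
  · rw [← map_mul, h2, map_mul]
  · rw [← map_mul, h3, map_mul]
  · simp only [← map_mul, h4, map_one]
  · simp only [← map_mul, h5, map_one]

/-- In every configuration the linking involution exists and is unique. -/
theorem exists_link {A B A' B' : S6} (h : Quad A B A' B') :
    ∃ c, Link A B A' B' c ∧ ∀ c', Link A B A' B' c' → c' = c := by
  obtain ⟨a2, b2, a2', b2', hne, hne', hb, hb', h1, h2, h3, h4⟩ := h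
  have hA1 : A ≠ 1 := by
    rintro rfl
    simp only [one_mul] at hb
    rw [b2, one_mul] at hb
    exact hne hb.symm
  obtain ⟨g, -, hg⟩ := (rep_conj A (mem_sqOne A a2)).resolve_left hA1
  set f : S6 ≃* S6 := MulAut.conj g with hf
  have hfA : f A ∈ reps := by
    rw [hf, MulAut.conj_apply]; exact hg
  have hq : Quad (f A) (f B) (f A') (f B') := by
    refine ⟨?_, ?_, ?_, ?_, f.injective.ne hne, f.injective.ne hne', ?_, ?_, ?_, ?_, ?_, ?_⟩ <;>
      simp only [← map_mul, map_one, a2, b2, a2', b2', hb, hb', h1, h2, h3, h4]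
  obtain ⟨c, hc, huniq⟩ := link_rep hfA hq
  refine ⟨f.symm c, ?_, fun c' hc' => ?_⟩
  · have := link_map (f := f.symm.toMonoidHom) hc
    simpa using this
  · rw [MulEquiv.eq_symm_apply]
    exact huniq _ (link_map (f := f.toMonoidHom) hc')

end CfsgLib.Recog.SymNine.Emb
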