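import Cfsg.Agent.Lib.Recog.SymNine.Lines
import Cfsg.Agent.Lib.Recog.SymNine.Interface
import Cfsg.Agent.Lib.Recog.SymNine.Emb.SixModel
import Cfsg.Agent.Lib.Recog.SymNine.Emb.Lift
import Cfsg.Agent.Lib.Recog.SymTwoCentralizers

/-!
# The six transpositions inside the blocks and the symmetric groups on two blocks
-/

set_option autoImplicit false

namespace CfsgLib.Recog.SymNine

universe u

open Equiv

/-- the basis -/
abbrev bas : Fin 3 → V := ![e0, e1, e2]

/-- the change of one sign -/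
def flip1 (i : Fin 3) : Mon := (0, i == 0, i == 1, i == 2)

theorem flip1_facts : ∀ i j : Fin 3, comp (flip1 i) (flip1 i) = monOne ∧
    act (flip1 i) (bas i) = -bas i ∧ (i ≠ j → act (flip1 i) (bas j) = bas j) := by decide +kernel

set_option synthInstance.maxSize 4000 in
theorem flip1_neg : ∀ (i j : Fin 3) (v w : V), i ≠ j → act (flip1 i) v = -v →
    act (flip1 j) w = -w → v = -w → v = 0 := by decide +kernel

theorem bas_facts : ∀ i : Fin 3, bas i ≠ 0 ∧ ∀ j, i ≠ j → bas j ≠ bas i ∧ bas j ≠ -bas i := by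
  decide +kernel

variable {G : Type u} [Group G]

/-- Commuting transpositions, one inside each block. -/
structure Gens (C : Cube G allX) where
  /-- the transposition of block `i` -/
  a : Fin 3 → G
  sq : ∀ i, a i * a i = 1
  acts : ∀ i, Acts C.pt (a i) (flip1 i)

variable {C : Cube G allX}

theorem exists_gens (C : Cube G allX) : Nonempty (Gens C) := by
  have h : ∀ i, ∃ g, g * g = 1 ∧ Acts C.pt g (flip1 i) := fun i =>
    C.exists_invol rfl (flip1_facts i i).1
  choose a ha using h
  exact ⟨⟨a, fun i => (ha i).1, fun i => (ha i).2⟩⟩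

variable (S : Gens C)

theorem Gens.a_inv (i : Fin 3) : (S.a i)⁻¹ = S.a i := inv_eq_of_mul_eq_one_right (S.sq i)

/-- the second transposition of block `i` -/
def Gens.b (i : Fin 3) : G := S.a i * C.pt (bas i)

theorem Gens.a_mul_b (i : Fin 3) : S.a i * S.b i = C.pt (bas i) := by
  rw [Gens.b, ← mul_assoc, S.sq, one_mul]

theorem Gens.a_conj (i : Fin 3) (v : V) : S.a i * C.pt v * S.a i = C.pt (act (flip1 i) v) := by
  rw [← S.acts i v, S.a_inv]

theorem Gens.a_commute_pt {i j : Fin 3} (h : i ≠ j) : Commute (S.a i) (C.pt (bas j)) :=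
  C.commute_of_fix (S.acts i) ((flip1_facts i j).2.2 h)

theorem Gens.b_sq (i : Fin 3) : S.b i * S.b i = 1 := by
  rw [Gens.b, ← mul_assoc, S.a_conj, (flip1_facts i i).2.1, ← C.pt_add, neg_add_cancel, C.pt_zero]

theorem Gens.b_commute_pt {i j : Fin 3} (h : i ≠ j) : Commute (S.b i) (C.pt (bas j)) :=
  (S.a_commute_pt h).mul_left (C.commute_pt _ _)

theorem Gens.commute_aa (i j : Fin 3) : Commute (S.a i) (S.a j) := by
  by_cases hij : i = j
  · rw [hij]
  have key : ∀ (i j : Fin 3), i ≠ j →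
      ∃ w, C.pt w = S.a i * (S.a j * S.a i * S.a j) ∧ act (flip1 i) w = -w := by
    intro i j hij
    have hh : Acts C.pt (S.a j * S.a i * S.a j) (flip1 i) := by
      have := ((S.acts j).mul (S.acts i)).mul (S.acts j)
      have e : ∀ i j : Fin 3, comp (comp (flip1 j) (flip1 i)) (flip1 j) = flip1 i := by decide +kernel
      rwa [e] at this
    obtain ⟨w, hw⟩ := C.eq_pt_of_acts_one (by
      have := (S.acts i).mul hh
      rwa [(flip1_facts i i).1] at this)
    refine ⟨w, hw, C.pt_inj ?_⟩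
    have hsq : (S.a j * S.a i * S.a j) * (S.a j * S.a i * S.a j) = 1 := by
      calc _ = S.a j * (S.a i * (S.a j * S.a j) * S.a i) * S.a j := by group
        _ = 1 := by rw [S.sq, mul_one, S.sq, mul_one, S.sq]
    rw [← S.a_conj, C.pt_neg, hw, mul_inv_rev, inv_eq_of_mul_eq_one_right hsq, S.a_inv,
      ← mul_assoc, S.sq, one_mul]
  obtain ⟨v, hv, hv'⟩ := key i j hij
  obtain ⟨w, hw, hw'⟩ := key j i (Ne.symm hij)
  have hvw : v = -w := C.pt_inj (by
    rw [C.pt_neg, hv, hw]
    simp only [mul_inv_rev, S.a_inv, mul_assoc])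
  have h0 := flip1_neg i j v w hij hv' hw' hvw
  rw [h0, C.pt_zero] at hv
  have : S.a i = S.a j * S.a i * S.a j := by
    rw [eq_comm, ← mul_right_inj (S.a i), ← hv, S.sq]
  show S.a i * S.a j = S.a j * S.a i
  conv_lhs => rw [this, mul_assoc, S.sq, mul_one]

theorem Gens.commute_ab {i j : Fin 3} (h : i ≠ j) : Commute (S.a i) (S.b j) :=
  (S.commute_aa i j).mul_right (S.a_commute_pt h)

theorem Gens.commute_bb {i j : Fin 3} (h : i ≠ j) : Commute (S.b i) (S.b j) :=
  (S.commute_ab h.symm).symm.mul_right (S.b_commute_pt h)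

theorem Gens.braid (i : Fin 3) : (S.a i * S.b i) ^ 3 = 1 := by rw [S.a_mul_b, C.pt_cube]

/-- The symmetric group on the blocks `i`, `j`, inside the centraliser of the block `k`. -/
structure Pair (S : Gens C) (k i j : Fin 3) where
  /-- the embedding -/
  φ : Perm (Fin 6) →* G
  a_i : φ (swap 0 1) = S.a i
  b_i : φ (swap 1 2) = S.b i
  a_j : φ (swap 3 4) = S.a j
  b_j : φ (swap 4 5) = S.b j
  cent : ∀ σ, Commute (φ σ) (C.pt (bas k))
  inj : ∀ σ, φ σ ∈ Subgroup.zpowers (C.pt (bas k)) → σ = 1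
  surj : ∀ g, Commute g (C.pt (bas k)) → ∃ σ, ∃ z ∈ Subgroup.zpowers (C.pt (bas k)), g = φ σ * z
  cross : ∀ σ, Commute (φ σ) (S.a k) ∧ Commute (φ σ) (S.b k)

theorem hom_swaps (σ : Perm (Fin 6)) :
    σ ∈ Subgroup.closure ({swap 0 1, swap 1 2, swap 2 3, swap 3 4, swap 4 5} : Set (Perm (Fin 6))) := by
  set H := Subgroup.closure ({swap 0 1, swap 1 2, swap 2 3, swap 3 4, swap 4 5} : Set (Perm (Fin 6)))
  have h : ∀ s ∈ ({swap 0 1, swap 1 2, swap 2 3, swap 3 4, swap 4 5} : Set (Perm (Fin 6))), s ∈ H :=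
    fun s hs => Subgroup.subset_closure hs
  have e1 : swap (0 : Fin 6) 1 ∈ H := h _ (by simp)
  have e12 : swap (1 : Fin 6) 2 ∈ H := h _ (by simp)
  have e23 : swap (2 : Fin 6) 3 ∈ H := h _ (by simp)
  have e34 : swap (3 : Fin 6) 4 ∈ H := h _ (by simp)
  have e45 : swap (4 : Fin 6) 5 ∈ H := h _ (by simp)
  have e2 : swap (0 : Fin 6) 2 ∈ H := by
    rw [show swap (0 : Fin 6) 2 = swap 0 1 * swap 1 2 * swap 0 1 by decide +kernel]
    exact mul_mem (mul_mem e1 e12) e1
  have e3 : swap (0 : Fin 6) 3 ∈ H := by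
    rw [show swap (0 : Fin 6) 3 = swap 0 2 * swap 2 3 * swap 0 2 by decide +kernel]
    exact mul_mem (mul_mem e2 e23) e2
  have e4 : swap (0 : Fin 6) 4 ∈ H := by
    rw [show swap (0 : Fin 6) 4 = swap 0 3 * swap 3 4 * swap 0 3 by decide +kernel]
    exact mul_mem (mul_mem e3 e34) e3
  have e5 : swap (0 : Fin 6) 5 ∈ H := by
    rw [show swap (0 : Fin 6) 5 = swap 0 4 * swap 4 5 * swap 0 4 by decide +kernel]
    exact mul_mem (mul_mem e4 e45) e4
  rw [CfsgLib.Recog.SymTwoCentralizers.eq_top_of_swaps (P := H) 0 fun p hp => by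
    fin_cases p
    · exact absurd rfl hp
    · exact e1
    · exact e2
    · exact e3
    · exact e4
    · exact e5]
  trivial

theorem hom_commute {φ : Perm (Fin 6) →* G} {g : G} (h01 : Commute (φ (swap 0 1)) g)
    (h12 : Commute (φ (swap 1 2)) g) (h23 : Commute (φ (swap 2 3)) g)
    (h34 : Commute (φ (swap 3 4)) g) (h45 : Commute (φ (swap 4 5)) g) (σ : Perm (Fin 6)) :
    Commute (φ σ) g := by
  refine Subgroup.closure_induction (p := fun σ _ => Commute (φ σ) g) ?_ ?_ ?_ ?_ (hom_swaps σ)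
  · intro s hs
    simp only [Set.mem_insert_iff, Set.mem_singleton_iff] at hs
    rcases hs with rfl | rfl | rfl | rfl | rfl <;> assumption
  · rw [map_one]; exact Commute.one_left g
  · intro x y _ _ hx hy; rw [map_mul]; exact hx.mul_left hy
  · intro x _ hx; rw [map_inv]; exact hx.inv_left

/-- The symmetric groups on two blocks exist. -/
theorem exists_pair [Finite G] (hs : C.SixCase) {k i j : Fin 3} (hki : k ≠ i) (hkj : k ≠ j)
    (hij : i ≠ j) : Nonempty (Pair S k i j) := by
  classical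
  set D := Subgroup.centralizer ({C.pt (bas k)} : Set G) with hD
  obtain ⟨π, hπs, hπk⟩ : ∃ π : D →* Perm (Fin 6), Function.Surjective π ∧
      ∀ g, π g = 1 ↔ (g : G) ∈ Subgroup.zpowers (C.pt (bas k)) := hs.six k
  have memD : ∀ {g : G}, Commute g (C.pt (bas k)) → g ∈ D := fun h =>
    Subgroup.mem_centralizer_singleton_iff.2 h
  have hord : orderOf (C.pt (bas k)) = 3 := by
    have : Fact (Nat.Prime 3) := ⟨Nat.prime_three⟩
    exact orderOf_eq_prime (C.pt_cube _) (C.pt_ne_one (bas_facts k).1)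
  have T : Emb.ThreeCover π := by
    refine ⟨hπs, fun z hz d => Subtype.ext ?_, fun z hz => Subtype.ext ?_⟩
    · obtain ⟨t, ht⟩ := Subgroup.mem_zpowers_iff.1 ((hπk z).1 hz)
      show (z : G) * d = d * z
      rw [← ht]
      exact ((show Commute (d : G) (C.pt (bas k)) from
        Subgroup.mem_centralizer_singleton_iff.1 d.2).zpow_right t).eq.symm
    · obtain ⟨t, ht⟩ := Subgroup.mem_zpowers_iff.1 ((hπk z).1 hz)
      show (z : G) * z * z = 1
      rw [← ht, ← zpow_add, ← zpow_add, show t + t + t = ((3 : ℕ) : ℤ) * t by push_cast; ring,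
        zpow_mul, zpow_natCast, C.pt_cube, one_zpow]
  set A : D := ⟨S.a i, memD (S.a_commute_pt hki.symm)⟩ with hA
  set B : D := ⟨S.b i, memD (S.b_commute_pt hki.symm)⟩ with hB
  set A' : D := ⟨S.a j, memD (S.a_commute_pt hkj.symm)⟩ with hA'
  set B' : D := ⟨S.b j, memD (S.b_commute_pt hkj.symm)⟩ with hB'
  have a2 : A * A = 1 := Subtype.ext (S.sq i)
  have b2 : B * B = 1 := Subtype.ext (S.b_sq i)
  have a2' : A' * A' = 1 := Subtype.ext (S.sq j)
  have b2' : B' * B' = 1 := Subtype.ext (S.b_sq j)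
  have hne : ∀ l, k ≠ l → ∀ X Y : D, (X : G) = S.a l → (Y : G) = S.b l → Y * Y = 1 → π X ≠ π Y := by
    intro l hl X Y hX hY hY2 he
    have hk' := (hπk (X * Y)).1 (by rw [map_mul, he, ← map_mul, hY2, map_one])
    rw [Subgroup.coe_mul, hX, hY, S.a_mul_b] at hk'
    obtain ⟨w, hw, hw'⟩ := (C.mem_zpowers_pt (bas_facts k).1).1 hk'
    rcases inLine_iff.1 hw with rfl | rfl | rfl
    · exact (bas_facts l).1 (C.pt_inj hw')
    · exact ((bas_facts k).2 l hl).1 (C.pt_inj hw')
    · exact ((bas_facts k).2 l hl).2 (C.pt_inj hw')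
  have map_rel : ∀ {x y : D}, Commute (x : G) (y : G) → π x * π y = π y * π x := fun {x y} h => by
    rw [← map_mul, ← map_mul]; exact congrArg π (Subtype.ext h.eq)
  have map_cube : ∀ {x y : D}, ((x : G) * y) ^ 3 = 1 →
      π x * π y * (π x * π y) * (π x * π y) = 1 := fun {x y} h => by
    rw [← map_mul, ← map_mul, ← map_mul]
    refine (congrArg π (Subtype.ext ?_)).trans (map_one π)
    rw [pow_succ, pow_two] at h
    exact h
  have q : Emb.Quad (π A) (π B) (π A') (π B') :=
    ⟨by rw [← map_mul, a2, map_one], by rw [← map_mul, b2, map_one],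
      by rw [← map_mul, a2', map_one], by rw [← map_mul, b2', map_one],
      hne i hki A B rfl rfl b2, hne j hkj A' B' rfl rfl b2',
      map_cube (S.braid i), map_cube (S.braid j),
      map_rel (S.commute_aa i j), map_rel (S.commute_ab hij),
      map_rel (S.commute_ab hij.symm).symm, map_rel (S.commute_bb hij)⟩
  obtain ⟨c₀, hc₀, huniq⟩ := Emb.exists_link q
  obtain ⟨c, hcπ, hc2⟩ := T.exists_invol hc₀.1
  subst hcπ
  obtain ⟨-, hcA, hcB', hcB, hcA'⟩ := hc₀
  have cA : Commute c A := T.commute hc2 a2 hcA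
  have cB' : Commute c B' := T.commute hc2 b2' hcB'
  have cB : (c * B) ^ 3 = 1 := T.braid hc2 b2 hcB
  have cA' : (c * A') ^ 3 = 1 := T.braid hc2 a2' hcA'
  -- every element normalising the configuration fixes the link
  have fixc : ∀ g : G, g * g = 1 → Commute g (S.a i) → Commute g (S.b i) → Commute g (S.a j) →
      Commute g (S.b j) → g * C.pt (bas k) * g = (C.pt (bas k))⁻¹ → Commute (c : G) g := by
    intro g hg ha hb ha' hb' hgk
    have hgi : g⁻¹ = g := inv_eq_of_mul_eq_one_right hg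
    have hcD : g * (c : G) * g ∈ D := memD (by
      have h1 : Commute (g * (c : G) * g⁻¹) (g * (C.pt (bas k))⁻¹ * g⁻¹) :=
        (Commute.conj_iff g).2 (show Commute (c : G) (C.pt (bas k)) from
          Subgroup.mem_centralizer_singleton_iff.1 c.2).inv_right
      rw [← conj_inv, hgi, hgk, inv_inv] at h1
      exact h1)
    set c' : D := ⟨g * (c : G) * g, hcD⟩ with hc'
    have cj : ∀ {s : G}, Commute g s → g * s * g = s := fun {s} h => by
      rw [h.eq, mul_assoc, hg, mul_one]
    have mm : ∀ x y : G, g * x * g * (g * y * g) = g * (x * y) * g := fun x y => by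
      calc g * x * g * (g * y * g) = g * x * (g * g) * y * g := by group
        _ = _ := by rw [hg, mul_one, mul_assoc g x y]
    have hc'2 : c' * c' = 1 := Subtype.ext (by
      show g * (c : G) * g * (g * c * g) = 1
      rw [mm, show (c : G) * c = 1 from congrArg Subtype.val hc2, mul_one, hg])
    have hl : Emb.Link (π A) (π B) (π A') (π B') (π c') := by
      have hcom : ∀ (X : D), Commute g (X : G) → Commute c X → Commute (c' : G) (X : G) := by
        intro X hgX hcX
        show g * (c : G) * g * X = X * (g * c * g)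
        rw [← cj hgX, mm, mm, show (c : G) * X = X * c from congrArg Subtype.val hcX.eq]
      have hbr : ∀ (X : D), Commute g (X : G) → (c * X) ^ 3 = 1 →
          ((c' : G) * (X : G)) ^ 3 = 1 := by
        intro X hgX hcX
        show (g * (c : G) * g * X) ^ 3 = 1
        rw [← cj hgX, mm, pow_succ, pow_two, mm, mm, ← pow_two, ← pow_succ,
          show ((c : G) * X) ^ 3 = 1 from congrArg Subtype.val hcX, mul_one, hg]
      exact ⟨by rw [← map_mul, hc'2, map_one], map_rel (hcom A ha cA), map_rel (hcom B' hb' cB'),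
        map_cube (hbr B hb cB), map_cube (hbr A' ha' cA')⟩
    have e := T.invol_eq hc'2 hc2 (huniq _ hl)
    have e' : g * (c : G) * g = c := congrArg Subtype.val e
    show (c : G) * g = g * c
    conv_lhs => rw [← e']
    rw [mul_assoc, hg, mul_one]
  let s : ℕ → D := fun n => [A, B, c, A', B'].getD n 1
  have hAA' : Commute A A' := Subtype.ext (S.commute_aa i j).eq
  have hAB' : Commute A B' := Subtype.ext (S.commute_ab hij).eq
  have hBA' : Commute B A' := Subtype.ext (S.commute_ab hij.symm).symm.eq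
  have hBB' : Commute B B' := Subtype.ext (S.commute_bb hij).eq
  have bcB : (B * c) ^ 3 = 1 := by
    have e : B * c = B * (c * B) * B := by
      rw [← mul_assoc B c B, mul_assoc (B * c), b2, mul_one]
    rw [e, show B * (c * B) * B = B * (c * B) * B⁻¹ by rw [inv_eq_of_mul_eq_one_right b2],
      conj_pow, cB, mul_one, mul_inv_cancel]
  obtain ⟨φ₀, hφ₀, -⟩ := CfsgLib.Recog.SymTwoCentralizers.exists_hom (n := 5) s
    (fun n hn => by interval_cases n <;> assumption)
    (fun n hn => by
      have : n < 4 := by omega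
      interval_cases n
      · exact Subtype.ext (S.braid i)
      · exact bcB
      · exact cA'
      · exact Subtype.ext (S.braid j))
    (fun m n hmn hn => by
      have : m < 3 := by omega
      interval_cases n <;> interval_cases m
      all_goals first | omega | exact cA.symm | exact hAA' | exact hBA' | exact hAB' | exact hBB' |
        exact cB')
  have p01 : φ₀ (swap 0 1) = A := hφ₀ 0
  have p12 : φ₀ (swap 1 2) = B := hφ₀ 1
  have p23 : φ₀ (swap 2 3) = c := hφ₀ 2
  have p34 : φ₀ (swap 3 4) = A' := hφ₀ 3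
  have p45 : φ₀ (swap 4 5) = B' := hφ₀ 4
  have hinj : Function.Injective (π.comp φ₀) :=
    CfsgLib.Recog.SymTwoCentralizers.injective_of_hom (n := 5) (by norm_num) _ 0 1 rfl (by
      show π (φ₀ (swap 0 1)) ≠ π (φ₀ (swap 1 2))
      rw [p01, p12]
      exact hne i hki A B rfl rfl b2)
  have hsurj : Function.Surjective (π.comp φ₀) := Finite.surjective_of_injective hinj
  refine ⟨{
    φ := D.subtype.comp φ₀
    a_i := congrArg Subtype.val p01
    b_i := congrArg Subtype.val p12
    a_j := congrArg Subtype.val p34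
    b_j := congrArg Subtype.val p45
    cent := fun σ => Subgroup.mem_centralizer_singleton_iff.1 (φ₀ σ).2
    inj := fun σ hσ => hinj ((hπk (φ₀ σ)).2 hσ |>.trans (map_one (π.comp φ₀)).symm)
    surj := fun g hg => ?_
    cross := fun σ => ⟨?_, ?_⟩ }⟩
  · obtain ⟨σ, hσ⟩ := hsurj (π ⟨g, memD hg⟩)
    refine ⟨σ, ((φ₀ σ)⁻¹ * ⟨g, memD hg⟩ : D), (hπk _).1 ?_, by simp⟩
    rw [map_mul, map_inv, show π (φ₀ σ) = _ from hσ, inv_mul_cancel]
  all_goals
    refine hom_commute ?_ ?_ ?_ ?_ ?_ σ <;> simp only [MonoidHom.comp_apply, Subgroup.coe_subtype]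
  · rw [p01]; exact S.commute_aa i k
  · rw [p12]; exact (S.commute_ab hki).symm
  · rw [p23]
    refine fixc _ (S.sq k) (S.commute_aa k i) (S.commute_ab hki) (S.commute_aa k j) (S.commute_ab hkj) ?_
    rw [S.a_conj, (flip1_facts k k).2.1, C.pt_neg]
  · rw [p34]; exact S.commute_aa j k
  · rw [p45]; exact (S.commute_ab hkj).symm
  · rw [p01]; exact S.commute_ab hki.symm
  · rw [p12]; exact S.commute_bb hki.symm
  · rw [p23]
    refine fixc _ (S.b_sq k) (S.commute_ab hki.symm).symm (S.commute_bb hki)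
      (S.commute_ab hkj.symm).symm (S.commute_bb hkj) ?_
    rw [Gens.b]
    calc S.a k * C.pt (bas k) * C.pt (bas k) * (S.a k * C.pt (bas k))
        = (S.a k * (C.pt (bas k) * C.pt (bas k)) * S.a k) * C.pt (bas k) := by group
      _ = C.pt (act (flip1 k) (bas k + bas k)) * C.pt (bas k) := by rw [← C.pt_add, S.a_conj]
      _ = (C.pt (bas k))⁻¹ := by
        rw [add_self_eq_neg, act_neg, (flip1_facts k k).2.1, neg_neg, ← C.pt_add, add_self_eq_neg,
          C.pt_neg]
  · rw [p34]; exact S.commute_ab hkj.symm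
  · rw [p45]; exact S.commute_bb hkj.symm

end CfsgLib.Recog.SymNine
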