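import Cfsg.Agent.Lib.Recog.SymNine.Emb.GlueTop
import Cfsg.Agent.Lib.Recog.SymNine.NineEmb

/-!
# The copy of `S₉`
-/

set_option autoImplicit false

namespace CfsgLib.Recog.SymNine

universe u

open Equiv

theorem nine_facts :
    emb e0 0 = swap 0 1 * swap 1 2 ∧ emb e1 0 = swap 3 4 * swap 4 5 ∧
    emb e2 0 = swap 6 7 * swap 7 8 ∧ swap (2 : Fin 9) 6 * emb e1 0 = emb e1 0 * swap 2 6 ∧
    (∀ m : Mon, m = comp (comp (comp (if m.2.1 then flip1 0 else monOne)
      (if m.2.2.1 then flip1 1 else monOne)) (if m.2.2.2 then flip1 2 else monOne))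
      (permMon m.1)) := by decide +kernel

theorem link_facts : ∀ σ : Perm (Fin 6), σ * σ = 1 → σ * swap 0 1 = swap 0 1 * σ →
    σ * swap 4 5 = swap 4 5 * σ → σ * swap 1 2 * (σ * swap 1 2) * (σ * swap 1 2) = 1 →
    σ * swap 3 4 * (σ * swap 3 4) * (σ * swap 3 4) = 1 → σ = swap 2 3 := by decide +kernel

theorem nine_rels :
    swap (2 : Fin 9) 6 * swap 0 1 = swap 0 1 * swap 2 6 ∧
    swap (2 : Fin 9) 6 * swap 7 8 = swap 7 8 * swap 2 6 ∧
    (swap (2 : Fin 9) 6 * swap 1 2) ^ 3 = 1 ∧ (swap (2 : Fin 9) 6 * swap 6 7) ^ 3 = 1 := by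
  decide +kernel

variable {G : Type u} [Group G] {C : Cube G allX} {S : Gens C}

/-- An involution in the centraliser of a basis vector with the relations of the link is the
link. -/
theorem Pair.eq_link {k i j : Fin 3} (P : Pair S k i j) {w : G}
    (hw : Commute w (C.pt (bas k))) (h2 : w * w = 1) (ha : Commute w (S.a i))
    (hb : (w * S.b i) ^ 3 = 1) (ha' : (w * S.a j) ^ 3 = 1) (hb' : Commute w (S.b j)) :
    w = P.φ (swap 2 3) := by
  obtain ⟨σ, z, hz, rfl⟩ := P.surj w hw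
  have hzc : ∀ τ, Commute z (P.φ τ) := fun τ => by
    obtain ⟨t, rfl⟩ := Subgroup.mem_zpowers_iff.1 hz
    exact (P.cent τ).symm.zpow_left t
  have hsq : P.φ (σ * σ) * (z * z) = 1 := by
    rw [map_mul, ← h2]
    calc P.φ σ * P.φ σ * (z * z) = P.φ σ * (P.φ σ * z) * z := by group
      _ = P.φ σ * (z * P.φ σ) * z := by rw [(hzc σ).eq]
      _ = _ := by group
  have hσ : σ * σ = 1 := P.inj _ (by
    rw [mul_eq_one_iff_eq_inv.1 hsq]; exact inv_mem (mul_mem hz hz))
  rw [hσ, map_one, one_mul] at hsq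
  have hz1 : z = 1 := by
    obtain ⟨t, rfl⟩ := Subgroup.mem_zpowers_iff.1 hz
    have h3 : (C.pt (bas k) ^ t) * (C.pt (bas k) ^ t) * (C.pt (bas k) ^ t) = 1 := by
      rw [← zpow_add, ← zpow_add, show t + t + t = ((3 : ℕ) : ℤ) * t by push_cast; ring, zpow_mul,
        zpow_natCast, C.pt_cube, one_zpow]
    rwa [hsq, one_mul] at h3
  subst hz1
  rw [mul_one] at ha hb ha' hb' ⊢
  have comm : ∀ {τ}, Commute (P.φ σ) (P.φ τ) → σ * τ = τ * σ := fun {τ} h => by
    rw [← mul_inv_eq_one]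
    refine P.map_eq_one ?_
    rw [map_mul, map_inv, map_mul, map_mul, h.eq, mul_inv_cancel]
  have cube : ∀ {τ}, (P.φ σ * P.φ τ) ^ 3 = 1 → σ * τ * (σ * τ) * (σ * τ) = 1 := fun {τ} h => by
    refine P.map_eq_one ?_
    rw [pow_succ, pow_two] at h
    simpa only [map_mul] using h
  rw [← P.a_i] at ha
  rw [← P.b_j] at hb'
  rw [← P.b_i] at hb
  rw [← P.a_j] at ha'
  rw [link_facts σ hσ (comm ha) (comm hb') (cube hb) (cube ha')]

theorem commute_map {K : Type*} [Group K] (φ : K →* G) {x y : K} (h : x * y = y * x) :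
    Commute (φ x) (φ y) := Commute.map (show Commute x y from h) φ

theorem pow_map {K : Type*} [Group K] (φ : K →* G) {x y : K} {n : ℕ} (h : (x * y) ^ n = 1) :
    (φ x * φ y) ^ n = 1 := by rw [← map_mul, ← map_pow, h, map_one]

/-- The copy of `S₉`. -/
theorem exists_nineEmb [Finite G] (hs : C.SixCase) : Nonempty (NineEmb C) := by
  obtain ⟨S⟩ := exists_gens C
  obtain ⟨K⟩ := exists_links hs S
  let s : ℕ → G := fun n =>
    [S.a 0, S.b 0, K.p2.φ (swap 2 3), S.a 1, S.b 1, K.p0.φ (swap 2 3), S.a 2, S.b 2].getD n 1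
  have l01 : Commute (S.a 0) (K.p2.φ (swap 2 3)) := by
    rw [← K.p2.a_i]; exact commute_map _ (by decide +kernel)
  have l14 : Commute (K.p2.φ (swap 2 3)) (S.b 1) := by
    rw [← K.p2.b_j]; exact commute_map _ (by decide +kernel)
  have r13 : Commute (S.a 1) (K.p0.φ (swap 2 3)) := by
    rw [← K.p0.a_i]; exact commute_map _ (by decide +kernel)
  have r27 : Commute (K.p0.φ (swap 2 3)) (S.b 2) := by
    rw [← K.p0.b_j]; exact commute_map _ (by decide +kernel)
  have bl : (S.b 0 * K.p2.φ (swap 2 3)) ^ 3 = 1 := by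
    rw [← K.p2.b_i]; exact pow_map _ (by decide +kernel)
  have la : (K.p2.φ (swap 2 3) * S.a 1) ^ 3 = 1 := by
    rw [← K.p2.a_j]; exact pow_map _ (by decide +kernel)
  have br : (S.b 1 * K.p0.φ (swap 2 3)) ^ 3 = 1 := by
    rw [← K.p0.b_i]; exact pow_map _ (by decide +kernel)
  have ra : (K.p0.φ (swap 2 3) * S.a 2) ^ 3 = 1 := by
    rw [← K.p0.a_j]; exact pow_map _ (by decide +kernel)
  have lsq : K.p2.φ (swap 2 3) * K.p2.φ (swap 2 3) = 1 := by rw [← map_mul, swap_mul_self, map_one]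
  have rsq : K.p0.φ (swap 2 3) * K.p0.φ (swap 2 3) = 1 := by rw [← map_mul, swap_mul_self, map_one]
  have hlr := K.commute_links hs
  obtain ⟨φ, hφ, -⟩ := CfsgLib.Recog.SymTwoCentralizers.exists_hom (n := 8) s
    (fun n hn => by
      interval_cases n
      exacts [S.sq 0, S.b_sq 0, lsq, S.sq 1, S.b_sq 1, rsq, S.sq 2, S.b_sq 2])
    (fun n hn => by
      have : n < 7 := by omega
      interval_cases n
      exacts [S.braid 0, bl, la, S.braid 1, br, ra, S.braid 2])
    (fun m n hmn hn => by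
      have : m < 6 := by omega
      interval_cases n <;> interval_cases m
      all_goals first
        | omega
        | exact l01
        | exact l14
        | exact r13
        | exact r27
        | exact hlr
        | exact S.commute_aa _ _
        | exact S.commute_bb (by decide)
        | exact S.commute_ab (by decide)
        | exact (S.commute_ab (by decide)).symm
        | exact (K.p2.cross _).1
        | exact (K.p2.cross _).2
        | exact (K.p0.cross _).1.symm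
        | exact (K.p0.cross _).2.symm)
  have q01 : φ (swap 0 1) = S.a 0 := hφ 0
  have q12 : φ (swap 1 2) = S.b 0 := hφ 1
  have q23 : φ (swap 2 3) = K.p2.φ (swap 2 3) := hφ 2
  have q34 : φ (swap 3 4) = S.a 1 := hφ 3
  have q45 : φ (swap 4 5) = S.b 1 := hφ 4
  have q56 : φ (swap 5 6) = K.p0.φ (swap 2 3) := hφ 5
  have q67 : φ (swap 6 7) = S.a 2 := hφ 6
  have q78 : φ (swap 7 8) = S.b 2 := hφ 7
  have hinj : Function.Injective φ :=
    CfsgLib.Recog.SymTwoCentralizers.injective_of_hom (n := 8) (by norm_num) φ 0 1 rfl (by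
      show φ (swap 0 1) ≠ φ (swap 1 2)
      rw [q01, q12]
      intro e
      have := S.a_mul_b 0
      rw [← e, S.sq] at this
      exact C.pt_ne_one (bas_facts 0).1 this.symm)
  set H := φ.range with hH
  have ha : ∀ i, S.a i ∈ H := fun i => by
    fin_cases i
    exacts [⟨_, q01⟩, ⟨_, q34⟩, ⟨_, q67⟩]
  have hb : ∀ i, S.b i ∈ H := fun i => by
    fin_cases i
    exacts [⟨_, q12⟩, ⟨_, q45⟩, ⟨_, q78⟩]
  have nf := nine_facts
  have hu0 : φ (emb e0 0) = C.pt e0 := by rw [nf.1, map_mul, q01, q12, S.a_mul_b]; rfl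
  have hu1 : φ (emb e1 0) = C.pt e1 := by rw [nf.2.1, map_mul, q34, q45, S.a_mul_b]; rfl
  have hu2 : φ (emb e2 0) = C.pt e2 := by rw [nf.2.2.1, map_mul, q67, q78, S.a_mul_b]; rfl
  have hom_pt : ∀ v : V, φ (emb v 0) = C.pt v := by
    have hadd : ∀ v w, φ (emb v 0) = C.pt v → φ (emb w 0) = C.pt w →
        φ (emb (v + w) 0) = C.pt (v + w) := fun v w hv hw => by
      rw [emb_add, map_mul, hv, hw, C.pt_add]
    have hz : φ (emb 0 0) = C.pt 0 := by rw [emb_zero, map_one, C.pt_zero]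
    have hn : ∀ (n : ℕ) w, φ (emb w 0) = C.pt w → φ (emb (n • w) 0) = C.pt (n • w) := by
      intro n w hw
      induction n with
      | zero => rw [zero_smul]; exact hz
      | succ n ih => rw [succ_nsmul]; exact hadd _ _ ih hw
    intro v
    rw [basis_sum v]
    exact hadd _ _ (hadd _ _ (hn _ _ hu0) (hn _ _ hu1)) (hn _ _ hu2)
  have ptH : ∀ v, C.pt v ∈ H := fun v => ⟨_, hom_pt v⟩
  have link1 : K.p1.φ (swap 2 3) ∈ H := by
    refine ⟨swap 2 6, K.p1.eq_link ?_ ?_ ?_ ?_ ?_ ?_⟩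
    · rw [show C.pt (bas 1) = φ (emb e1 0) from hu1.symm]
      exact commute_map φ nf.2.2.2.1
    · rw [← map_mul, swap_mul_self, map_one]
    · rw [← q01]; exact commute_map φ nine_rels.1
    · rw [← q12]; exact pow_map φ nine_rels.2.2.1
    · rw [← q67]; exact pow_map φ nine_rels.2.2.2
    · rw [← q78]; exact commute_map φ nine_rels.2.1
  have pairH : ∀ {k i j : Fin 3} (P : Pair S k i j), P.φ (swap 2 3) ∈ H →
      ∀ g, Commute g (C.pt (bas k)) → g ∈ H := by
    intro k i j P hl g hg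
    obtain ⟨σ, z, hz, rfl⟩ := P.surj g hg
    refine mul_mem ?_ ((Subgroup.zpowers_le.2 (ptH _)) hz)
    have hle : Subgroup.closure ({swap 0 1, swap 1 2, swap 2 3, swap 3 4, swap 4 5} :
        Set (Perm (Fin 6))) ≤ H.comap P.φ := by
      rw [Subgroup.closure_le]
      rintro τ (rfl | rfl | rfl | rfl | rfl)
      · show P.φ _ ∈ H; rw [P.a_i]; exact ha i
      · show P.φ _ ∈ H; rw [P.b_i]; exact hb i
      · exact hl
      · show P.φ _ ∈ H; rw [P.a_j]; exact ha j
      · show P.φ _ ∈ H; rw [P.b_j]; exact hb j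
    exact hle (hom_swaps σ)
  refine ⟨⟨φ, hinj, hom_pt, ?_, ?_, ?_⟩⟩
  · intro g hg
    obtain ⟨m, -, hgm⟩ := C.exists_acts g hg
    have hacts : ∃ h ∈ H, Acts C.pt h m := by
      have hflip : ∀ (b : Bool) (i : Fin 3),
          ∃ h ∈ H, Acts C.pt h (if b then flip1 i else monOne) := fun b i => by
        cases b
        · exact ⟨1, one_mem H, Acts.one⟩
        · exact ⟨S.a i, ha i, S.acts i⟩
      have hperm : Acts C.pt (φ (emb 0 m.1)) (permMon m.1) := fun v => by
        rw [← hom_pt, ← hom_pt, ← map_mul, emb_conj, map_mul, mul_inv_cancel_right]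
      obtain ⟨h0, m0, a0⟩ := hflip m.2.1 0
      obtain ⟨h1, m1, a1⟩ := hflip m.2.2.1 1
      obtain ⟨h2, m2, a2⟩ := hflip m.2.2.2 2
      refine ⟨h0 * h1 * h2 * φ (emb 0 m.1), mul_mem (mul_mem (mul_mem m0 m1) m2) ⟨_, rfl⟩, ?_⟩
      have := ((a0.mul a1).mul a2).mul hperm
      rwa [← nf.2.2.2.2 m] at this
    obtain ⟨h, hh, hhm⟩ := hacts
    obtain ⟨v, hv⟩ := C.eq_pt_mul_of_acts hgm hhm
    rw [← hv]
    exact mul_mem (ptH v) hh
  · intro i g hg
    fin_cases i
    · exact pairH K.p0 ⟨_, q56⟩ g hg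
    · exact pairH K.p1 link1 g hg
    · exact pairH K.p2 ⟨_, q23⟩ g hg
  · intro g h01 h78
    exact K.mem_of_pair hs H ha hb ⟨_, q23⟩ ⟨_, q56⟩ (by rwa [q01] at h01) (by rwa [q78] at h78)

end CfsgLib.Recog.SymNine
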