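import Cfsg.Agent.Lib.Recog.SymNine.Emb.Blocks
import Cfsg.Agent.Lib.Recog.SymNine.Stab
import Cfsg.Agent.Lib.Recog.SymNine.Group

/-!
# Separation of classes of involutions
-/

set_option autoImplicit false

namespace CfsgLib.Recog.SymNine

universe u

open Equiv

theorem weight_act : ∀ (m : Mon) (v : V), weight (act m v) = weight v := by decide +kernel

theorem weight_neg : ∀ v : V, weight (-v) = weight v := by decide +kernel

/-- the monomial map of the product of four transpositions -/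
def fourMon : Mon := (5, false, true, false)

set_option synthInstance.maxSize 4000 in
theorem four_facts :
    (∀ m : Mon, act m (e0 + e2) = e0 + e2 → comp m (comp m m) = monOne →
      comp m fourMon = comp fourMon m → m = monOne) ∧
    (∀ u : V, act fourMon u = u → inLine (e0 + e2) u = true) ∧
    comp (5, false, false, false) (flip1 1) = fourMon ∧
    weight (e0 + e2) = 2 ∧ act (5, false, false, false) e0 = e2 ∧
    act (5, false, false, false) e1 = e1 ∧ act (5, false, false, false) e2 = e0 ∧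
    act fourMon (e0 + e2) = e0 + e2 := by decide +kernel

theorem double_facts : ∀ σ0 ∈ ([swap 0 1 * swap 3 4, swap 2 3 * swap 0 1, swap 2 3 * swap 4 5] :
    List (Perm (Fin 6))), ∀ σ : Perm (Fin 6), σ * σ0 = σ0 * σ → σ * σ * (σ * σ) = 1 := by
  decide +kernel

theorem eq_one_of_four {K : Type u} [Group K] {x : K} (h4 : x * x * (x * x) = 1) {n : ℕ}
    (h : x ^ 3 ^ n = 1) : x = 1 := by
  have h4' : x ^ 4 = 1 := by
    rw [show (4 : ℕ) = 2 * 2 from rfl, pow_mul, pow_two, pow_two]; exact h4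
  have : orderOf x ∣ Nat.gcd 4 (3 ^ n) :=
    Nat.dvd_gcd (orderOf_dvd_of_pow_eq_one h4') (orderOf_dvd_of_pow_eq_one h)
  rw [show Nat.gcd 4 (3 ^ n) = 1 from Nat.Coprime.pow_right n (by norm_num)] at this
  exact orderOf_eq_one_iff.1 (Nat.dvd_one.1 this)

variable {G : Type u} [Group G] {X : Mon → Bool} (C : Cube G X)

theorem Cube.three_of_acts {g : G} {m : Mon} (hgm : Acts C.pt g m) {n : ℕ} (hn : g ^ 3 ^ n = 1) :
    comp m (comp m m) = monOne := by
  have h2 := hgm.mul hgm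
  have h3 := hgm.mul h2
  have h4 := h2.mul h2
  have h12 := (h4.mul h4).mul h4
  rw [show comp (comp (comp (comp m m) (comp m m)) (comp (comp m m) (comp m m)))
    (comp (comp m m) (comp m m)) = monOne from mon_twelve m] at h12
  have hJ12 : g ^ 12 ∈ C.J := by
    obtain ⟨u, hu⟩ := C.eq_pt_of_acts_one h12
    refine ⟨u, hu.trans ?_⟩
    simp only [show (12 : ℕ) = 1+1+1+1+1+1+1+1+1+1+1+1 from rfl, pow_add, pow_one, mul_assoc]
  have h3n : (g ^ 3) ^ 3 ^ n = 1 := by rw [← pow_mul, mul_comm, pow_mul, hn, one_pow]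
  have hcop : (4 : ℕ).Coprime (orderOf (g ^ 3)) :=
    Nat.Coprime.coprime_dvd_right (orderOf_dvd_of_pow_eq_one h3n)
      (Nat.Coprime.pow_right _ (by norm_num))
  obtain ⟨k, hk⟩ := exists_pow_eq_self_of_coprime hcop
  obtain ⟨w, hw⟩ : g ^ 3 ∈ C.J := by
    rw [← hk, ← pow_mul, ← pow_mul, ← mul_assoc, pow_mul]
    exact C.J.pow_mem hJ12 k
  rw [show g * (g * g) = g ^ 3 by simp only [pow_succ, pow_zero, one_mul, mul_assoc], ← hw] at h3
  exact C.acts_unique h3 (C.acts_pt w)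

theorem Cube.acts_of_basis {g : G} {m : Mon} (h0 : g * C.pt e0 * g⁻¹ = C.pt (act m e0))
    (h1 : g * C.pt e1 * g⁻¹ = C.pt (act m e1)) (h2 : g * C.pt e2 * g⁻¹ = C.pt (act m e2)) :
    Acts C.pt g m := by
  let P : V → Prop := fun v => g * C.pt v * g⁻¹ = C.pt (act m v)
  have hadd : ∀ v w, P v → P w → P (v + w) := fun v w hv hw => by
    show g * C.pt (v + w) * g⁻¹ = C.pt (act m (v + w))
    rw [act_add, C.pt_add, C.pt_add, ← hv, ← hw]; group
  have hz : P 0 := by
    show g * C.pt 0 * g⁻¹ = C.pt (act m 0)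
    rw [act_zero, C.pt_zero, mul_one, mul_inv_cancel]
  have hn : ∀ (n : ℕ) w, P w → P (n • w) := by
    intro n w hw
    induction n with
    | zero => rw [zero_smul]; exact hz
    | succ n ih => rw [succ_nsmul]; exact hadd _ _ ih hw
  intro v
  show P v
  rw [basis_sum v]
  exact hadd _ _ (hadd _ _ (hn _ _ h0) (hn _ _ h1)) (hn _ _ h2)

/-- Every 3-subgroup of the centraliser of `t` containing `pt w` is generated by it. -/
def Cube.Small (t : G) (w : V) : Prop :=
  Commute (C.pt w) t ∧ ∀ Q : Subgroup G, IsPGroup 3 Q → C.pt w ∈ Q → (∀ q ∈ Q, Commute q t) →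
    Q ≤ Subgroup.zpowers (C.pt w)

theorem Cube.small_of_tight [Finite G] {t : G} {w : V} (hw : w ≠ 0) (hwt : Commute (C.pt w) t)
    (h : ∀ g (n : ℕ), g ^ 3 ^ n = 1 → Commute g (C.pt w) → Commute g t →
      g ∈ Subgroup.zpowers (C.pt w)) : C.Small t w := by
  refine ⟨hwt, fun Q hQ hwQ hQt => ?_⟩
  have : Fact (Nat.Prime 3) := ⟨Nat.prime_three⟩
  have : Nontrivial Q := (Subgroup.nontrivial_iff_exists_ne_one Q).2 ⟨_, hwQ, C.pt_ne_one hw⟩
  have := hQ.center_nontrivial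
  obtain ⟨z, hz, hz1⟩ := exists_ne (1 : Subgroup.center Q) |>.elim fun z hz =>
    (⟨(z : Q), z.2, fun e => hz (Subtype.ext e)⟩ : ∃ z : Q, z ∈ Subgroup.center Q ∧ z ≠ 1)
  have elt : ∀ g ∈ Q, Commute g (C.pt w) → g ∈ Subgroup.zpowers (C.pt w) := fun g hg hgw => by
    obtain ⟨n, hn⟩ := hQ ⟨g, hg⟩
    exact h g n (congrArg Subtype.val hn) hgw (hQt g hg)
  have hzmem := elt z z.2 (congrArg Subtype.val (Subgroup.mem_center_iff.1 hz ⟨_, hwQ⟩)).symm
  -- so the point itself is central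
  have hwcen : ∀ g ∈ Q, Commute g (C.pt w) := by
    intro g hg
    have hgz : Commute g (z : G) := congrArg Subtype.val (Subgroup.mem_center_iff.1 hz ⟨g, hg⟩)
    obtain ⟨u, hu, hzu⟩ := (C.mem_zpowers_pt hw).1 hzmem
    rcases inLine_iff.1 hu with rfl | rfl | rfl
    · rw [C.pt_zero] at hzu; exact absurd (Subtype.ext hzu) hz1
    · rwa [← hzu]
    · rw [hzu, C.pt_neg] at hgz
      simpa using hgz.inv_right
  exact fun g hg => elt g hg (hwcen g hg)

theorem Cube.Small.conj {C : Cube G X} [Finite G] {t : G} {w : V} (h : C.Small t w)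
    {Q : Subgroup G} (hQ : IsPGroup 3 Q) (hQt : ∀ q ∈ Q, Commute q t) :
    ∃ g, Commute g t ∧ ∀ q ∈ Q, g * q * g⁻¹ ∈ Subgroup.zpowers (C.pt w) := by
  have : Fact (Nat.Prime 3) := ⟨Nat.prime_three⟩
  set D := Subgroup.centralizer ({t} : Set G)
  have hQD : Q ≤ D := fun q hq => Subgroup.mem_centralizer_singleton_iff.2 (hQt q hq)
  have hwD : Subgroup.zpowers (C.pt w) ≤ D :=
    Subgroup.zpowers_le.2 (Subgroup.mem_centralizer_singleton_iff.2 h.1)
  have hZ : IsPGroup 3 (Subgroup.zpowers (C.pt w)) :=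
    C.isPGroup_J.to_le (Subgroup.zpowers_le.2 ⟨w, rfl⟩)
  obtain ⟨P, hP⟩ := (hZ.of_equiv (Subgroup.subgroupOfEquivOfLe hwD).symm).exists_le_sylow
  obtain ⟨P', hP'⟩ := (hQ.of_equiv (Subgroup.subgroupOfEquivOfLe hQD).symm).exists_le_sylow
  obtain ⟨k, hk⟩ := MulAction.exists_smul_eq D P' P
  have hle := h.2 ((P : Subgroup D).map D.subtype) (P.2.map _)
    ⟨⟨C.pt w, hwD (Subgroup.mem_zpowers _)⟩, hP (Subgroup.mem_zpowers _), rfl⟩
    (by rintro _ ⟨q, -, rfl⟩; exact Subgroup.mem_centralizer_singleton_iff.1 q.2)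
  refine ⟨k, Subgroup.mem_centralizer_singleton_iff.1 k.2, fun q hq =>
    hle ⟨k * ⟨q, hQD hq⟩ * k⁻¹, ?_, rfl⟩⟩
  rw [← hk]
  exact ⟨_, hP' (Subgroup.mem_subgroupOf.2 hq), rfl⟩

theorem Cube.Small.conj_card {C : Cube G X} [Finite G] {t : G} {w : V} (h : C.Small t w)
    {Q : Subgroup G} (hQ : IsPGroup 3 Q) (hQt : ∀ q ∈ Q, Commute q t) : Nat.card Q ≤ 3 := by
  obtain ⟨g, -, hg⟩ := h.conj hQ hQt
  refine (Nat.card_le_card_of_injective
    (fun q : Q => (⟨g * q * g⁻¹, hg q q.2⟩ : Subgroup.zpowers (C.pt w))) fun a b hab => ?_).trans ?_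
  · exact Subtype.ext (mul_left_cancel (mul_right_cancel (congrArg Subtype.val hab)))
  · rw [Nat.card_zpowers]
    exact Nat.le_of_dvd (by norm_num) (orderOf_dvd_of_pow_eq_one (C.pt_cube w))

theorem Cube.Small.no_fusion {C : Cube G X} [Finite G] {t t' g : G} {v w : V} (h : C.Small t w)
    (hv : v ≠ 0) (hvt : Commute (C.pt v) t') (hg : g * t' * g⁻¹ = t) (hne : weight v ≠ weight w)
    (hw : w ≠ 0) : False := by
  have hQ : IsPGroup 3 (Subgroup.zpowers (g * C.pt v * g⁻¹)) := by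
    have := (C.isPGroup_J.to_le (Subgroup.zpowers_le.2 (⟨v, rfl⟩ : C.pt v ∈ C.J))).map
      (MulAut.conj g).toMonoidHom
    rwa [MonoidHom.map_zpowers] at this
  obtain ⟨k, -, hk⟩ := h.conj hQ (by
    rintro _ ⟨i, rfl⟩
    exact Commute.zpow_left (hg ▸ (Commute.conj_iff g).2 hvt) i)
  obtain ⟨u, hu, hku⟩ := (C.mem_zpowers_pt hw).1 (hk _ (Subgroup.mem_zpowers _))
  obtain ⟨m, -, hm⟩ := C.fusion (g := k * g) (v := v) (w := u) (by rw [← hku]; group)
  refine hne ?_
  rw [← weight_act m v, hm]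
  rcases inLine_iff.1 hu with rfl | rfl | rfl
  · exact absurd (C.pt_inj (by
      rw [C.pt_zero] at hku ⊢
      exact conj_eq_one_iff.1 (conj_eq_one_iff.1 hku))) hv
  · rfl
  · exact weight_neg w

variable {C : Cube G allX} {S : Gens C}

theorem Pair.pt_i {k i j : Fin 3} (P : Pair S k i j) :
    P.φ (swap 0 1 * swap 1 2) = C.pt (bas i) ∧ P.φ (swap 3 4 * swap 4 5) = C.pt (bas j) := by
  rw [map_mul, map_mul, P.a_i, P.b_i, P.a_j, P.b_j, S.a_mul_b, S.a_mul_b]
  exact ⟨rfl, rfl⟩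

theorem Pair.map_eq_one {k i j : Fin 3} (P : Pair S k i j) {σ : Perm (Fin 6)}
    (h : P.φ σ = 1) : σ = 1 := P.inj σ (h ▸ one_mem _)

theorem Pair.small [Finite G] {k i j : Fin 3} (P : Pair S k i j) {σ0 : Perm (Fin 6)}
    (h0 : σ0 ∈ ([swap 0 1 * swap 3 4, swap 2 3 * swap 0 1, swap 2 3 * swap 4 5] :
      List (Perm (Fin 6)))) : C.Small (P.φ σ0) (bas k) := by
  refine C.small_of_tight (bas_facts k).1 (P.cent σ0).symm fun g n hn hgk hgt => ?_
  obtain ⟨σ, z, hz, rfl⟩ := P.surj g hgk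
  have hzc : ∀ τ, Commute z (P.φ τ) := fun τ => by
    obtain ⟨a, rfl⟩ := Subgroup.mem_zpowers_iff.1 hz
    exact ((P.cent τ).symm.zpow_left a)
  have hσ0 : σ * σ0 = σ0 * σ := by
    have e : P.φ σ * P.φ σ0 * z = P.φ σ0 * P.φ σ * z := by
      calc P.φ σ * P.φ σ0 * z = P.φ σ * (z * P.φ σ0) := by rw [(hzc σ0).eq, mul_assoc]
        _ = (P.φ σ * z) * P.φ σ0 := by rw [mul_assoc]
        _ = P.φ σ0 * (P.φ σ * z) := hgt.eq
        _ = _ := by rw [mul_assoc]
    rw [← mul_inv_eq_one]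
    refine P.map_eq_one ?_
    rw [map_mul, map_inv, map_mul, map_mul, mul_right_cancel e, mul_inv_cancel]
  have hσn : σ ^ 3 ^ n = 1 := by
    rw [(hzc σ).symm.mul_pow, mul_eq_one_iff_eq_inv, ← map_pow] at hn
    exact P.inj _ (hn ▸ inv_mem (pow_mem hz _))
  rw [eq_one_of_four (double_facts σ0 h0 σ hσ0) hσn, map_one, one_mul]
  exact hz

/-- the product of four transpositions -/
def fourElt (P : Pair S 1 0 2) : G := P.φ (swap 0 3 * swap 1 4 * swap 2 5) * S.a 1

theorem fourElt_acts (P : Pair S 1 0 2) : Acts C.pt (fourElt P) fourMon := by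
  have hf := four_facts
  rw [← hf.2.2.1]
  refine Acts.mul ?_ (S.acts 1)
  obtain ⟨h0, h2⟩ := P.pt_i
  refine C.acts_of_basis ?_ ?_ ?_
  · rw [hf.2.2.2.2.1, show C.pt e0 = C.pt (bas 0) from rfl, ← h0, ← map_inv, ← map_mul, ← map_mul,
      show C.pt e2 = C.pt (bas 2) from rfl, ← h2]
    exact congrArg P.φ (by decide +kernel)
  · rw [hf.2.2.2.2.2.1, show C.pt e1 = C.pt (bas 1) from rfl, (P.cent _).eq, mul_inv_cancel_right]
  · rw [hf.2.2.2.2.2.2.1, show C.pt e2 = C.pt (bas 2) from rfl, ← h2, ← map_inv, ← map_mul,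
      ← map_mul, show C.pt e0 = C.pt (bas 0) from rfl, ← h0]
    exact congrArg P.φ (by decide +kernel)

theorem small_four [Finite G] (hs : C.SixCase) (P : Pair S 1 0 2) :
    C.Small (fourElt P) (e0 + e2) := by
  have hf := four_facts
  have hw : (e0 + e2 : V) ≠ 0 := by decide
  refine C.small_of_tight hw (C.commute_of_fix (fourElt_acts P) hf.2.2.2.2.2.2.2).symm
    fun g n hn hgw hgt => ?_
  obtain ⟨m, -, hm⟩ := C.exists_acts g (hs.middle _ hf.2.2.2.1.ge g hgw)
  have hcm : comp m fourMon = comp fourMon m :=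
    C.acts_unique (hm.mul (fourElt_acts P)) (hgt.eq ▸ (fourElt_acts P).mul hm)
  rw [hf.1 m (C.acts_fix hm hgw) (C.three_of_acts hm hn) hcm] at hm
  obtain ⟨u, rfl⟩ := C.eq_pt_of_acts_one hm
  exact (C.mem_zpowers_pt hw).2
    ⟨u, hf.2.1 u (C.acts_fix (fourElt_acts P) hgt.symm), rfl⟩

theorem exists_big_a_zero : ∃ Q : Subgroup G, IsPGroup 3 Q ∧ 3 < Nat.card Q ∧
    ∀ q ∈ Q, Commute q (S.a 0) := by
  let f : ZMod 3 × ZMod 3 → G := fun a => C.pt ((0 : ZMod 3), a.1, a.2)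
  let Q : Subgroup G :=
    { carrier := Set.range f
      one_mem' := ⟨0, C.pt_zero⟩
      mul_mem' := by
        rintro _ _ ⟨a, rfl⟩ ⟨b, rfl⟩
        exact ⟨a + b, by simp only [f, Prod.fst_add, Prod.snd_add, ← C.pt_add, Prod.mk_add_mk, add_zero]⟩
      inv_mem' := by
        rintro _ ⟨a, rfl⟩
        exact ⟨-a, by simp only [f, Prod.fst_neg, Prod.snd_neg, ← C.pt_neg, Prod.neg_mk, neg_zero]⟩ }
  refine ⟨Q, C.isPGroup_J.to_le (by rintro _ ⟨a, rfl⟩; exact ⟨_, rfl⟩), ?_, ?_⟩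
  · have : Nat.card Q = Nat.card (ZMod 3 × ZMod 3) :=
      Nat.card_range_of_injective (f := f) fun a b h => by simpa [f] using C.pt_inj h
    rw [this, Nat.card_prod, Nat.card_zmod]
    norm_num
  · rintro _ ⟨a, rfl⟩
    exact (C.commute_of_fix (S.acts 0)
      ((by decide +kernel : ∀ a : ZMod 3 × ZMod 3,
        act (flip1 0) ((0 : ZMod 3), a.1, a.2) = ((0 : ZMod 3), a.1, a.2)) a)).symm

theorem conj_four : ∃ σ : Perm (Fin 6),
    σ * (swap 2 3 * swap 0 1 * swap 4 5) * σ⁻¹ = swap 0 3 * swap 1 4 * swap 2 5 := by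
  decide +kernel

/-- The class of `c` is different from that of `c a` modulo `⟨a 0, b 2⟩`. -/
theorem not_conj_glue [Finite G] (hs : C.SixCase) (P : Pair S 1 0 2) (Q : Pair S 2 0 1) {g e : G}
    (hga : Commute g (S.a 0)) (hgb : Commute g (S.b 2))
    (he : e = 1 ∨ e = S.a 0 ∨ e = S.b 2 ∨ e = S.a 0 * S.b 2) :
    g * P.φ (swap 2 3) * g⁻¹ ≠ P.φ (swap 2 3) * S.a 1 * e := by
  intro hg
  set c := P.φ (swap 2 3) with hc
  have hpa : P.φ (swap 0 1) = S.a 0 := P.a_i
  have hpb : P.φ (swap 4 5) = S.b 2 := P.b_j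
  have big : ∀ {t : G} {w : V}, C.Small t w → ∀ {h : G}, h * c * h⁻¹ = t → False := by
    intro t w hsm h hh
    obtain ⟨R, hR, hR3, hRa⟩ := exists_big_a_zero (S := S)
    set k := P.φ (swap 0 2 * swap 1 3) with hk
    have hka : k * S.a 0 * k⁻¹ = c := by
      rw [← hpa, hc, hk, ← map_inv, ← map_mul, ← map_mul]
      exact congrArg P.φ (by decide +kernel)
    have hle := hsm.conj_card (hR.map (MulAut.conj (h * k)).toMonoidHom) (by
      rintro _ ⟨q, hq, rfl⟩
      show Commute (h * k * q * (h * k)⁻¹) t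
      rw [← hh, ← hka, show h * (k * S.a 0 * k⁻¹) * h⁻¹ = h * k * S.a 0 * (h * k)⁻¹ by group]
      exact (Commute.conj_iff _).2 (hRa q hq))
    rw [Subgroup.card_map_of_injective (MulAut.conj (h * k)).injective] at hle
    omega
  -- the product of four transpositions
  obtain ⟨σ, hσ⟩ := conj_four
  have hfour : P.φ σ * (c * S.a 0 * S.b 2 * S.a 1) * (P.φ σ)⁻¹ = fourElt P := by
    rw [hc, ← hpa, ← hpb, ← map_mul, ← map_mul, fourElt, ← hσ, map_mul P.φ (σ * _), map_mul P.φ σ,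
      map_inv]
    have := (P.cross σ).1.inv_left
    simp only [mul_assoc]
    rw [this.eq]
  have hca : Commute (S.a 0) (S.a 1) := S.commute_aa 0 1
  have hba : Commute (S.b 2) (S.a 1) := (S.commute_ab (by decide)).symm
  have hab : Commute (S.a 0) (S.b 2) := S.commute_ab (by decide)
  have fixed : ∀ x, Commute g x → g * (c * x) * g⁻¹ = c * S.a 1 * e * x := fun x hx => by
    calc g * (c * x) * g⁻¹ = g * c * g⁻¹ * (g * x * g⁻¹) := by group
      _ = c * S.a 1 * e * x := by rw [hg, hx.eq, mul_inv_cancel_right]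
  have four_small := small_four hs P
  have small_ne : ∀ {x : G}, C.Small (c * x) (bas 1) → ∀ {h : G},
      h * (c * x) * h⁻¹ = fourElt P → False := fun {x} hsm {h} hh =>
    four_small.no_fusion (bas_facts 1).1 hsm.1 hh (by decide) (by decide)
  rcases he with rfl | rfl | rfl | rfl
  · -- one transposition and two
    set h := P.φ (swap 0 2 * swap 1 3) with hh
    have hh1 : h * (c * S.a 1) * h⁻¹ = S.a 0 * S.a 1 := by
      calc h * (c * S.a 1) * h⁻¹ = h * c * h⁻¹ * (h * S.a 1 * h⁻¹) := by group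
        _ = S.a 0 * S.a 1 := by
          rw [(P.cross _).1.eq, mul_inv_cancel_right, ← hpa, hh, hc, ← map_inv, ← map_mul, ← map_mul]
          exact congrArg (· * S.a 1) (congrArg P.φ (by decide +kernel))
    have hsm := Q.small (σ0 := swap 0 1 * swap 3 4) (by simp)
    rw [map_mul, Q.a_i, Q.a_j] at hsm
    refine big hsm (h := h * g) ?_
    rw [mul_one] at hg
    calc h * g * c * (h * g)⁻¹ = h * (g * c * g⁻¹) * h⁻¹ := by group
      _ = _ := by rw [hg, hh1]
  · -- two transpositions and four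
    have hsm := P.small (σ0 := swap 2 3 * swap 4 5) (by simp)
    rw [map_mul, hpb, ← hc] at hsm
    refine small_ne hsm (h := P.φ σ * g) ?_
    calc P.φ σ * g * (c * S.b 2) * (P.φ σ * g)⁻¹
        = P.φ σ * (g * (c * S.b 2) * g⁻¹) * (P.φ σ)⁻¹ := by group
      _ = fourElt P := by
        rw [fixed _ hgb, ← hfour]
        congr 2
        rw [mul_assoc c (S.a 1), ← hca.eq, ← mul_assoc c, mul_assoc (c * S.a 0), ← hba.eq,
          ← mul_assoc]
  · have hsm := P.small (σ0 := swap 2 3 * swap 0 1) (by simp)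
    rw [map_mul, hpa, ← hc] at hsm
    refine small_ne hsm (h := P.φ σ * g) ?_
    calc P.φ σ * g * (c * S.a 0) * (P.φ σ * g)⁻¹
        = P.φ σ * (g * (c * S.a 0) * g⁻¹) * (P.φ σ)⁻¹ := by group
      _ = fourElt P := by
        rw [fixed _ hga, ← hfour]
        congr 2
        rw [mul_assoc (c * S.a 1), ← hab.eq, ← mul_assoc, mul_assoc c (S.a 1), ← hca.eq,
          ← mul_assoc c, mul_assoc (c * S.a 0), ← hba.eq, ← mul_assoc]
  · -- one transposition and four
    refine big four_small (h := P.φ σ * g) ?_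
    calc P.φ σ * g * c * (P.φ σ * g)⁻¹ = P.φ σ * (g * c * g⁻¹) * (P.φ σ)⁻¹ := by group
      _ = fourElt P := by
        rw [hg, ← hfour]
        congr 2
        rw [← mul_assoc, mul_assoc c (S.a 1), ← hca.eq, ← mul_assoc c, mul_assoc (c * S.a 0),
          ← hba.eq, ← mul_assoc]

end CfsgLib.Recog.SymNine
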