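import Cfsg.Agent.Lib.Recog.SymNine.Emb.Pairing
import Cfsg.Agent.Lib.Recog.SymNine.Planes

/-!
# Conjugates of the linking transposition
-/

set_option autoImplicit false

namespace CfsgLib.Recog.SymNine

universe u

open Equiv

/-- fixes the first two points and centralises the product of two middle transpositions -/
def OctMem (σ : Perm (Fin 6)) : Prop :=
  σ 0 = 0 ∧ σ 1 = 1 ∧ σ * (swap 2 5 * swap 3 4) = swap 2 5 * swap 3 4 * σ

instance (σ : Perm (Fin 6)) : Decidable (OctMem σ) := by unfold OctMem; infer_instance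

theorem oct_facts : OctMem 1 ∧ (Finset.univ.filter fun σ : Perm (Fin 6) => OctMem σ).card = 8 ∧
    (∀ σ, OctMem σ → σ * swap 0 1 = swap 0 1 * σ) := by decide +kernel

/-- a dihedral subgroup of order eight on the middle four points -/
def octGroup : Subgroup (Perm (Fin 6)) where
  carrier := {σ | OctMem σ}
  one_mem' := oct_facts.1
  mul_mem' := fun {a b} ha hb =>
    ⟨by rw [Perm.mul_apply, hb.1, ha.1], by rw [Perm.mul_apply, hb.2.1, ha.2.1],
      (Commute.mul_left (ha.2.2 : Commute a _) hb.2.2).eq⟩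
  inv_mem' := fun {a} ha =>
    ⟨Perm.inv_eq_iff_eq.2 ha.1.symm, Perm.inv_eq_iff_eq.2 ha.2.1.symm,
      (Commute.inv_left (ha.2.2 : Commute a _)).eq⟩

variable {G : Type u} [Group G] {C : Cube G allX} {S : Gens C} (K : Links S)

theorem Links.qa_conj_qu : K.qa * K.qu * K.qa⁻¹ = K.qu⁻¹ := by
  rw [Links.qu, inv_eq_of_mul_eq_one_right K.qa_sq, ← mul_assoc, K.qa_sq, one_mul, mul_inv_rev,
    inv_eq_of_mul_eq_one_right K.qa_sq, inv_eq_of_mul_eq_one_right K.qb_sq]

theorem Links.refl_mul (i j : ℕ) :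
    K.qu ^ i * K.qa * (K.qu ^ j * K.qa) = K.qu ^ i * (K.qu ^ j)⁻¹ := by
  have h : K.qa * K.qu ^ j * K.qa⁻¹ = (K.qu ^ j)⁻¹ := by rw [← conj_pow, K.qa_conj_qu, inv_pow]
  rw [inv_eq_of_mul_eq_one_right K.qa_sq] at h
  calc K.qu ^ i * K.qa * (K.qu ^ j * K.qa) = K.qu ^ i * (K.qa * K.qu ^ j * K.qa) := by group
    _ = _ := by rw [h]

theorem Links.commute_qc_qu : Commute K.qc K.qu := K.commute_qc_qa.mul_right K.commute_qc_qb

/-- the restriction of `p2` in the quotient -/
theorem Links.q_p2_eq_one {σ : Perm (Fin 6)} (h : K.p2.φ σ ∈ outerGroup.map K.p1.φ) :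
    σ = 1 ∨ σ = swap 0 1 := by
  have hbas : (C.pt (bas 2))⁻¹ ≠ C.pt (bas 2) := by
    rw [← C.pt_neg]
    exact fun e => (bas_facts 2).1 (eq_zero_of_eq_neg _ (C.pt_inj e).symm)
  have hb2 : ¬ Commute (S.b 2) (C.pt (bas 2)) := fun hc => by
    have h1 : Commute (S.a 2) (C.pt (bas 2)) := by
      have := hc.mul_left (Commute.refl (C.pt (bas 2))).inv_left
      rwa [Gens.b, mul_inv_cancel_right] at this
    have h2 := S.a_conj 2 (bas 2)
    rw [h1.eq, mul_assoc, S.sq, mul_one, (flip1_facts 2 2).2.1, C.pt_neg] at h2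
    exact hbas h2.symm
  rcases K.e_cases h with e | e | e | e
  · exact Or.inl (K.p2.map_eq_one e)
  · right
    rw [← mul_inv_eq_one]
    exact K.p2.map_eq_one (by rw [map_mul, map_inv, e, K.p2.a_i, mul_inv_cancel])
  · exact absurd (e ▸ K.p2.cent σ) hb2
  · exfalso
    refine hb2 ?_
    have := ((K.p2.cent (swap 0 1)).inv_left).mul_left (e ▸ K.p2.cent σ)
    rwa [K.p2.a_i, inv_mul_cancel_left] at this

theorem Links.p2_mem_M {σ : Perm (Fin 6)} (h : σ * swap 0 1 = swap 0 1 * σ) :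
    K.p2.φ σ ∈ K.M := K.mem_M.2
  ⟨by rw [← K.p2.a_i]; exact Commute.map (show Commute σ (swap 0 1) from h) K.p2.φ,
   (K.p2.cross σ).2⟩

theorem Links.qc_ne_one : K.qc ≠ 1 := by
  rw [Links.qc, ← map_one K.q, Ne, K.q_eq]
  rintro ⟨e, ⟨τ, hτ, rfl⟩, h⟩
  rw [OneMemClass.coe_one] at h
  have h1 := K.p1.map_eq_one (σ := swap 2 3 * τ) (by rw [map_mul]; exact h.symm)
  rcases mem_outerGroup.1 hτ with rfl | rfl | rfl | rfl <;> exact absurd h1 (by decide +kernel)

variable [Finite G]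

/-- the conjugates of the linking transposition commuting with it -/
theorem Links.three_cases (hs : C.SixCase) {x : K.L} (hc : Commute x K.qc)
    (hx : IsConj K.qc x) : x = K.qc ∨ ∃ i, x = K.qu ^ i * K.qa := by
  have hx2 : x * x = 1 := by
    obtain ⟨t, rfl⟩ := isConj_iff.1 hx
    calc t * K.qc * t⁻¹ * (t * K.qc * t⁻¹) = t * (K.qc * K.qc) * t⁻¹ := by group
      _ = 1 := by rw [K.qc_sq, mul_one, mul_inv_cancel]
  have hx1 : x ≠ 1 := fun e => K.qc_ne_one (by
    rw [e] at hx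
    exact isConj_one_left.1 hx)
  obtain ⟨δ, ε, i, rfl⟩ := K.form_of_commute_qc hs hc
  cases ε
  · simp only [Bool.false_eq_true, if_false, mul_one] at hx2 hx1 ⊢
    have hu : K.qu ^ i = 1 := by
      have h2 : (K.qu ^ i) ^ 2 = 1 := by
        cases δ
        · simpa [pow_two] using hx2
        · simp only [if_true] at hx2
          rw [← pow_two, K.commute_qc_qu.pow_right i |>.mul_pow, pow_two K.qc, K.qc_sq, one_mul]
            at hx2
          exact hx2
      have h3 : (K.qu ^ i) ^ 3 = 1 := by rw [← pow_mul, mul_comm, pow_mul, K.qu_cube, one_pow]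
      rwa [pow_succ, h2, one_mul] at h3
    rw [hu, mul_one] at hx1 ⊢
    cases δ
    · simp at hx1
    · exact Or.inl (by simp)
  · cases δ
    · exact Or.inr ⟨i, by simp⟩
    · exfalso
      simp only [if_true] at hx
      obtain ⟨t, ht⟩ := isConj_iff.1 hx
      refine K.not_conj_qc hs ((K.qu ^ (2 * i))⁻¹ * t) ?_
      have hcw : Commute K.qc (K.qu ^ (2 * i)) := K.commute_qc_qu.pow_right _
      have h : K.qu ^ (2 * i) * (K.qc * K.qa) * (K.qu ^ (2 * i))⁻¹ = K.qc * K.qu ^ i * K.qa := by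
        have hflip : K.qa * (K.qu ^ (2 * i))⁻¹ = K.qu ^ (2 * i) * K.qa := by
          rw [← inv_pow, ← K.qa_conj_qu, conj_pow, inv_eq_of_mul_eq_one_right K.qa_sq, ← mul_assoc,
            ← mul_assoc, K.qa_sq, one_mul]
        rw [← mul_assoc (K.qu ^ (2 * i)), ← hcw.eq, mul_assoc (K.qc * _), hflip, ← mul_assoc,
          mul_assoc K.qc, ← pow_add, show 2 * i + 2 * i = i + 3 * i by ring, pow_add, pow_mul,
          K.qu_cube, one_pow, mul_one]
      rw [mul_inv_rev, inv_inv]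
      calc (K.qu ^ (2 * i))⁻¹ * t * K.qc * (t⁻¹ * K.qu ^ (2 * i))
          = (K.qu ^ (2 * i))⁻¹ * (t * K.qc * t⁻¹) * K.qu ^ (2 * i) := by group
        _ = K.qc * K.qa := by rw [ht, ← h]; group

theorem Links.three_pair (hs : C.SixCase) {d x y : K.L} (hd : IsConj K.qc d)
    (hxd : Commute x d) (hx : IsConj K.qc x) (hxne : x ≠ d)
    (hyd : Commute y d) (hy : IsConj K.qc y) (hyne : y ≠ d) (hxy : x ≠ y) :
    (x * y) ^ 3 = 1 ∧ ∀ z, Commute z d → IsConj K.qc z → z ≠ d → z = x ∨ z = y ∨ z = x * y * x := by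
  obtain ⟨t, rfl⟩ := isConj_iff.1 hd
  have get : ∀ {z : K.L}, Commute z (t * K.qc * t⁻¹) → IsConj K.qc z → z ≠ t * K.qc * t⁻¹ →
      ∃ i, i < 3 ∧ z = t * (K.qu ^ i * K.qa) * t⁻¹ := by
    intro z hzd hz hzne
    have hc : Commute (t⁻¹ * z * t) K.qc := by
      have := (Commute.conj_iff t⁻¹).2 hzd
      rwa [inv_inv, show t⁻¹ * (t * K.qc * t⁻¹) * t = K.qc by group] at this
    rcases K.three_cases hs hc (hz.trans (isConj_iff.2 ⟨t⁻¹, by rw [inv_inv]⟩)) with e | ⟨i, e⟩
    · exact absurd (by rw [← e]; group) hzne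
    · refine ⟨i % 3, Nat.mod_lt _ (by norm_num), ?_⟩
      have : K.qu ^ i = K.qu ^ (i % 3) := by
        conv_lhs => rw [← Nat.mod_add_div i 3, pow_add, pow_mul, K.qu_cube, one_pow, mul_one]
      rw [← this, ← e]
      group
  obtain ⟨i, hi, rfl⟩ := get hxd hx hxne
  obtain ⟨j, hj, rfl⟩ := get hyd hy hyne
  have hij : i ≠ j := fun e => hxy (by rw [e])
  refine ⟨?_, fun z hzd hz hzne => ?_⟩
  · rw [show t * (K.qu ^ i * K.qa) * t⁻¹ * (t * (K.qu ^ j * K.qa) * t⁻¹) =
      t * (K.qu ^ i * K.qa * (K.qu ^ j * K.qa)) * t⁻¹ by group, conj_pow, K.refl_mul,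
      (((Commute.refl K.qu).pow_pow i j).inv_right).mul_pow, ← pow_mul, inv_pow, ← pow_mul,
      mul_comm i, mul_comm j, pow_mul, pow_mul, K.qu_cube, one_pow, one_pow, inv_one, mul_one,
      mul_one, mul_inv_cancel]
  obtain ⟨k, hk, rfl⟩ := get hzd hz hzne
  by_cases hki : k = i
  · exact Or.inl (by rw [hki])
  by_cases hkj : k = j
  · exact Or.inr (Or.inl (by rw [hkj]))
  refine Or.inr (Or.inr ?_)
  have e : K.qu ^ i * K.qa * (K.qu ^ j * K.qa) * (K.qu ^ i * K.qa) = K.qu ^ k * K.qa := by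
    rw [K.refl_mul, ← mul_assoc]
    congr 1
    rw [mul_assoc, ((Commute.refl K.qu).pow_pow j i).inv_left.eq, ← mul_assoc, ← pow_add,
      mul_inv_eq_iff_eq_mul, ← pow_add, pow_eq_pow_iff_modEq,
      orderOf_eq_prime (hp := ⟨Nat.prime_three⟩) K.qu_cube K.qu_ne_one, Nat.ModEq]
    interval_cases i <;> interval_cases j <;> interval_cases k <;> omega
  rw [← e]
  group

/-- the linking transposition is conjugate to a middle one -/
theorem Links.isConj_qc_qa (hs : C.SixCase) : IsConj K.qc K.qa := by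
  classical
  have : Fact (Nat.Prime 2) := ⟨Nat.prime_two⟩
  let f : octGroup →* K.M :=
    (K.p2.φ.comp octGroup.subtype).codRestrict K.M fun σ => K.p2_mem_M (oct_facts.2.2 _ σ.2)
  have hinj : Function.Injective (K.q.comp f) := by
    rw [injective_iff_map_eq_one]
    rintro ⟨σ, hσ⟩ h
    rcases K.q_p2_eq_one (σ := σ) (Subgroup.mem_subgroupOf.1
        (show f ⟨σ, hσ⟩ ∈ K.E from (QuotientGroup.eq_one_iff _).1 h))
      with e | e
    · exact Subtype.ext e
    · have h0 : σ 0 = 0 := hσ.1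
      rw [e, swap_apply_left] at h0
      exact absurd h0 (by decide)
  have h8 : Nat.card (K.q.comp f).range = 8 := by
    rw [← Nat.card_congr (MonoidHom.ofInjective hinj).toEquiv,
      show Nat.card octGroup = Nat.card {σ : Perm (Fin 6) // OctMem σ} from rfl,
      Nat.card_eq_fintype_card, Fintype.card_subtype, oct_facts.2.1]
  have hd : 8 ∣ Nat.card K.L := h8 ▸ Subgroup.card_subgroup_dvd_card _
  -- the four group of the two transpositions
  have hc : K.qc * K.qc = 1 := K.qc_sq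
  have ha : K.qa * K.qa = 1 := K.qa_sq
  have hca : K.qa * K.qc = K.qc * K.qa := K.commute_qc_qa.eq.symm
  have e1 : ∀ z, K.qc * (K.qc * z) = z := fun z => by rw [← mul_assoc, hc, one_mul]
  have e2 : ∀ z, K.qa * (K.qa * z) = z := fun z => by rw [← mul_assoc, ha, one_mul]
  have e3 : ∀ z, K.qa * (K.qc * z) = K.qc * (K.qa * z) := fun z => by
    rw [← mul_assoc, hca, mul_assoc]
  let Vs : Subgroup K.L :=
    { carrier := {x | x = 1 ∨ x = K.qc ∨ x = K.qa ∨ x = K.qc * K.qa}
      one_mem' := Or.inl rfl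
      mul_mem' := by
        rintro x y (rfl | rfl | rfl | rfl) (rfl | rfl | rfl | rfl) <;>
          simp [hc, ha, hca, e1, e2, e3, mul_assoc]
      inv_mem' := by
        rintro x (rfl | rfl | rfl | rfl)
        · exact Or.inl inv_one
        · exact Or.inr (Or.inl (inv_eq_of_mul_eq_one_right hc))
        · exact Or.inr (Or.inr (Or.inl (inv_eq_of_mul_eq_one_right ha)))
        · refine Or.inr (Or.inr (Or.inr ?_))
          rw [mul_inv_rev, inv_eq_of_mul_eq_one_right hc, inv_eq_of_mul_eq_one_right ha, hca] }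
  have hVsq : ∀ x ∈ Vs, x * x = 1 := by
    rintro x (rfl | rfl | rfl | rfl)
    · exact one_mul 1
    · exact hc
    · exact ha
    · rw [mul_assoc, ← mul_assoc K.qa, hca, mul_assoc K.qc, ha, mul_one, hc]
  have hV2 : IsPGroup 2 Vs := fun x => ⟨1, Subtype.ext (by
    show (x : K.L) ^ (2 ^ 1) = 1
    rw [pow_one, pow_two]; exact hVsq x x.2)⟩
  obtain ⟨P, hP⟩ := hV2.exists_le_sylow
  have hlt : Vs.subgroupOf P < ⊤ := by
    refine lt_top_iff_ne_top.2 fun h => ?_
    have hPV := Subgroup.subgroupOf_eq_top.1 h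
    have h8' : 8 ∣ Nat.card (P : Subgroup K.L) :=
      P.pow_dvd_card_of_pow_dvd_card (n := 3) (by norm_num; exact hd)
    have h4 : Nat.card (P : Subgroup K.L) ≤ 4 := by
      refine (Subgroup.card_le_of_le hPV).trans ?_
      refine (Nat.card_mono ({1, K.qc, K.qa, K.qc * K.qa} : Finset K.L).finite_toSet
        (fun x hx => by simpa [Vs] using hx)).trans ?_
      rw [Nat.card_coe_set_eq, Set.ncard_coe_finset]
      exact Finset.card_le_four
    have := Nat.le_of_dvd Nat.card_pos h8'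
    omega
  have := P.2.isNilpotent
  obtain ⟨⟨r, hr⟩, hrN, hrV⟩ := SetLike.exists_of_lt
    (Group.normalizerCondition_of_isNilpotent _ hlt)
  rw [← Subgroup.subgroupOf_normalizer_eq hP, Subgroup.mem_subgroupOf] at hrN
  rw [Subgroup.mem_subgroupOf] at hrV
  have hrc := (Subgroup.mem_normalizer_iff.1 hrN K.qc).1 (Or.inr (Or.inl rfl))
  rcases hrc with e | e | e | e
  · exact absurd (conj_eq_one_iff.1 e) K.qc_ne_one
  · exfalso
    obtain ⟨δ, ε, i, he⟩ := K.form_of_commute_qc hs (x := r) (mul_inv_eq_iff_eq_mul.1 e)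
    have hd' : (if δ then K.qc else 1) ∈ Vs := by
      cases δ
      · exact Or.inl rfl
      · exact Or.inr (Or.inl rfl)
    have he' : (if ε then K.qa else 1) ∈ Vs := by
      cases ε
      · exact Or.inl rfl
      · exact Or.inr (Or.inr (Or.inl rfl))
    have hu : K.qu ^ i ∈ (P : Subgroup K.L) := by
      have : K.qu ^ i = (if δ then K.qc else 1)⁻¹ * r * (if ε then K.qa else 1)⁻¹ := by
        rw [he]; group
      rw [this]
      exact mul_mem (mul_mem (inv_mem (hP hd')) hr) (inv_mem (hP he'))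
    obtain ⟨n, hn⟩ := P.2 ⟨_, hu⟩
    have hn' : (K.qu ^ i) ^ 2 ^ n = 1 := congrArg Subtype.val hn
    have h3 : (K.qu ^ i) ^ 3 = 1 := by rw [← pow_mul, mul_comm, pow_mul, K.qu_cube, one_pow]
    have hg : orderOf (K.qu ^ i) ∣ Nat.gcd 3 (2 ^ n) :=
      Nat.dvd_gcd (orderOf_dvd_of_pow_eq_one h3) (orderOf_dvd_of_pow_eq_one hn')
    rw [show Nat.gcd 3 (2 ^ n) = 1 from Nat.Coprime.pow_right n (by norm_num)] at hg
    rw [orderOf_eq_one_iff.1 (Nat.dvd_one.1 hg), mul_one] at he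
    exact hrV (he ▸ mul_mem hd' he')
  · exact isConj_iff.2 ⟨r, e⟩
  · exact absurd e (K.not_conj_qc hs r)

end CfsgLib.Recog.SymNine
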