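import Cfsg.Agent.Lib.Recog.SymNine.Emb.Four
import Cfsg.Agent.Lib.Recog.SymTwoCentralizers

/-!
# The linking transpositions commute
-/

set_option autoImplicit false

namespace CfsgLib.Recog.SymNine

universe u

open Equiv

section Braid

variable {K : Type u} [Group K] {x y z e : K}

theorem eq_of_cube_commute (hx : x * x = 1) (hy : y * y = 1) (h : (x * y) ^ 3 = 1)
    (hc : Commute x y) : x = y := by
  have h2 : (x * y) ^ 2 = 1 := by rw [hc.mul_pow, pow_two, pow_two, hx, hy, one_mul]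
  rw [pow_succ, h2, one_mul, mul_eq_one_iff_eq_inv] at h
  rw [h, inv_eq_of_mul_eq_one_right hy]

theorem braid_swap (hx : x * x = 1) (hy : y * y = 1) (h : (x * y) ^ 3 = 1) :
    x * y * x = y * x * y := by
  have e : x * y * x = (y * x * y)⁻¹ := eq_inv_of_mul_eq_one_left (by
    rw [← h]; simp only [pow_succ, pow_zero, one_mul, mul_assoc])
  rw [e, mul_inv_rev, mul_inv_rev, inv_eq_of_mul_eq_one_right hx, inv_eq_of_mul_eq_one_right hy,
    mul_assoc]

theorem isConj_of_braid (hx : x * x = 1) (hy : y * y = 1) (h : (x * y) ^ 3 = 1) : IsConj x y :=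
  isConj_iff.2 ⟨x * y, by
    rw [mul_inv_rev, inv_eq_of_mul_eq_one_right hx, inv_eq_of_mul_eq_one_right hy,
      braid_swap hx hy h]
    calc y * x * y * (y * x) = y * x * (y * y) * x := by group
      _ = y * (x * x) := by rw [hy, mul_one, mul_assoc]
      _ = y := by rw [hx, mul_one]⟩

/-- If conjugation by `x` multiplies `y` by `e`, then `e` is trivial. -/
theorem eq_one_of_twist (hx : x * x = 1) (he : e * e = 1) (hy : y * y = 1) (hz : z * z = 1)
    (hyz : (y * z) ^ 3 = 1) (hxz : Commute x z) (hye : Commute y e) (hze : Commute z e)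
    (h : x * y * x = y * e) : e = 1 := by
  have hb := braid_swap hy hz hyz
  have hmm : ∀ a b, x * a * x * (x * b * x) = x * (a * b) * x := fun a b => by
    calc x * a * x * (x * b * x) = x * a * (x * x) * b * x := by group
      _ = _ := by rw [hx, mul_one, mul_assoc x a b]
  have hxzx : x * z * x = z := by rw [hxz.eq, mul_assoc, hx, mul_one]
  have h1 : y * e * z * (y * e) = z * (y * e) * z := by
    have l : x * (y * z * y) * x = y * e * z * (y * e) := by rw [← hmm, ← hmm, h, hxzx]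
    have r : x * (z * y * z) * x = z * (y * e) * z := by rw [← hmm, ← hmm, h, hxzx]
    rw [← l, ← r, hb]
  have h2 : y * z * y = z * y * z * e := by
    have l : y * e * z * (y * e) = y * z * y := by
      calc y * e * z * (y * e) = y * (e * z) * (y * e) := by group
        _ = y * z * (e * (y * e)) := by rw [← hze.eq]; group
        _ = y * z * y := by rw [hye.eq, ← mul_assoc e, he, one_mul]
    have r : z * (y * e) * z = z * y * z * e := by
      calc z * (y * e) * z = z * y * (e * z) := by group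
        _ = _ := by rw [← hze.eq]; group
    rw [← l, h1, r]
  rw [hb] at h2
  exact mul_eq_left.1 h2.symm

end Braid

variable {G : Type u} [Group G] {C : Cube G allX} {S : Gens C} (K : Links S)

/-- the image of the first link -/
def Links.ql : K.L := K.q K.lM
/-- the image of the second link -/
def Links.qr : K.L := K.q K.rM

theorem Links.lift_p2 {σ : Perm (Fin 6)} (h : σ * swap 0 1 = swap 0 1 * σ) {τ : Perm (Fin 6)}
    (hτ : τ * swap 0 1 = swap 0 1 * τ) :
    K.q ⟨K.p2.φ σ, K.p2_mem_M h⟩ = K.q ⟨K.p2.φ τ, K.p2_mem_M hτ⟩ → σ⁻¹ * τ = 1 ∨ σ⁻¹ * τ = swap 0 1 := by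
  intro he
  obtain ⟨e, he', hee⟩ := K.q_eq.1 he
  refine K.q_p2_eq_one ?_
  rw [map_mul, map_inv, show K.p2.φ τ = K.p2.φ σ * e from hee, inv_mul_cancel_left]
  exact he'

theorem Links.ql_sq : K.ql * K.ql = 1 := by
  rw [Links.ql, ← map_mul, ← map_one K.q]
  refine congrArg K.q (Subtype.ext ?_)
  show K.p2.φ _ * K.p2.φ _ = 1
  rw [← map_mul, swap_mul_self, map_one]

theorem Links.qr_sq : K.qr * K.qr = 1 := by
  rw [Links.qr, ← map_mul, ← map_one K.q]
  refine congrArg K.q (Subtype.ext ?_)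
  show K.p0.φ _ * K.p0.φ _ = 1
  rw [← map_mul, swap_mul_self, map_one]

theorem Links.qa_qb_cube : (K.qa * K.qb) ^ 3 = 1 := K.qu_cube

theorem Links.ql_qa_cube : (K.ql * K.qa) ^ 3 = 1 := by
  rw [Links.ql, Links.qa, ← map_mul, ← map_pow, ← map_one K.q]
  refine congrArg K.q (Subtype.ext ?_)
  show (K.p2.φ _ * S.a 1) ^ 3 = 1
  rw [← K.p2.a_j, ← map_mul, ← map_pow, ← map_one K.p2.φ]
  exact congrArg K.p2.φ (by decide +kernel)

theorem Links.qb_qr_cube : (K.qb * K.qr) ^ 3 = 1 := by
  rw [Links.qb, Links.qr, ← map_mul, ← map_pow, ← map_one K.q]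
  refine congrArg K.q (Subtype.ext ?_)
  show (S.b 1 * K.p0.φ _) ^ 3 = 1
  rw [← K.p0.b_i, ← map_mul, ← map_pow, ← map_one K.p0.φ]
  exact congrArg K.p0.φ (by decide +kernel)

theorem Links.ql_qb : Commute K.ql K.qb := by
  refine Commute.map (show Commute K.lM K.bM from Subtype.ext ?_) K.q
  show K.p2.φ _ * S.b 1 = S.b 1 * K.p2.φ _
  rw [← K.p2.b_j, ← map_mul, ← map_mul]
  exact congrArg K.p2.φ (by decide +kernel)

theorem Links.qa_qr : Commute K.qa K.qr := by
  refine Commute.map (show Commute K.aM K.rM from Subtype.ext ?_) K.q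
  show S.a 1 * K.p0.φ _ = K.p0.φ _ * S.a 1
  rw [← K.p0.a_i, ← map_mul, ← map_mul]
  exact congrArg K.p0.φ (by decide +kernel)

theorem Links.not_commute_qa_qb : ¬ Commute K.qa K.qb := fun h =>
  K.qu_ne_one (by rw [Links.qu, eq_of_cube_commute K.qa_sq K.qb_sq K.qa_qb_cube h, K.qb_sq])

theorem Links.qr_ne_qa : K.qr ≠ K.qa := by
  rw [Links.qr, Links.qa, Ne, K.q_eq]
  rintro ⟨e, he, h⟩
  have hu0 : ∀ σ, Commute (K.p0.φ σ) (C.pt (bas 0)) := K.p0.cent
  have hee : e = K.p0.φ (swap 2 3 * swap 0 1) := by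
    rw [map_mul, K.p0.a_i]
    calc e = (K.p0.φ (swap 2 3))⁻¹ * (K.p0.φ (swap 2 3) * e) := by group
      _ = _ := by rw [show K.p0.φ (swap 2 3) * e = S.a 1 from h.symm, ← map_inv, swap_inv]
  have ha0 : ¬ Commute (S.a 0) (C.pt (bas 0)) := fun hc => by
    have h2 := S.a_conj 0 (bas 0)
    rw [hc.eq, mul_assoc, S.sq, mul_one, (flip1_facts 0 0).2.1] at h2
    exact (bas_facts 0).1 (eq_zero_of_eq_neg _ (C.pt_inj h2))
  rcases K.e_cases he with e' | e' | e' | e'
  · exact absurd (K.p0.map_eq_one (hee.symm.trans e')) (by decide +kernel)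
  · exact ha0 (e' ▸ hee ▸ hu0 _)
  · refine absurd (K.p0.map_eq_one (σ := swap 2 3 * swap 0 1 * swap 4 5) ?_) (by decide +kernel)
    rw [map_mul, ← hee, e', K.p0.b_j, S.b_sq]
  · refine ha0 ?_
    have h1 : Commute e (C.pt (bas 0)) := hee ▸ hu0 _
    have h2 : Commute (S.b 2) (C.pt (bas 0)) := S.b_commute_pt (by decide)
    have := h1.mul_left h2.inv_left
    rwa [e', mul_inv_cancel_right] at this

theorem Links.ql_ne_qa : K.ql ≠ K.qa := fun h => K.not_commute_qa_qb (h ▸ K.ql_qb)

theorem Links.qb_ne_qr : K.qb ≠ K.qr := fun h => K.not_commute_qa_qb (h.symm ▸ K.qa_qr)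

theorem Links.qc_ne_qa : K.qc ≠ K.qa := fun h => K.not_commute_qa_qb (h ▸ K.commute_qc_qb)

theorem Links.qc_ne_qb : K.qc ≠ K.qb := fun h =>
  K.not_commute_qa_qb (h ▸ K.commute_qc_qa).symm

theorem Links.ql_ne_qc : K.ql ≠ K.qc := fun h =>
  K.ql_ne_qa (eq_of_cube_commute K.ql_sq K.qa_sq K.ql_qa_cube (h ▸ K.commute_qc_qa))

theorem Links.qr_ne_qc : K.qr ≠ K.qc := fun h =>
  K.qb_ne_qr (eq_of_cube_commute K.qb_sq K.qr_sq K.qb_qr_cube (h ▸ K.commute_qc_qb.symm))

theorem Links.ql_ne_qb : K.ql ≠ K.qb := by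
  intro h
  have hb : (⟨K.p2.φ (swap 4 5), K.p2_mem_M (by decide +kernel)⟩ : K.M) = K.bM := Subtype.ext K.p2.b_j
  have := K.lift_p2 (σ := swap 2 3) (τ := swap 4 5) (by decide +kernel) (by decide +kernel)
    (by rw [hb]; exact h)
  rcases this with e | e <;> exact absurd e (by decide +kernel)

variable [Finite G] (hs : C.SixCase)
include hs

theorem Links.conj_qb : IsConj K.qc K.qb :=
  (K.isConj_qc_qa hs).trans (isConj_of_braid K.qa_sq K.qb_sq K.qa_qb_cube)

theorem Links.conj_qr : IsConj K.qc K.qr :=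
  (K.conj_qb hs).trans (isConj_of_braid K.qb_sq K.qr_sq K.qb_qr_cube)

theorem Links.conj_ql : IsConj K.qc K.ql :=
  (K.isConj_qc_qa hs).trans (isConj_of_braid K.ql_sq K.qa_sq K.ql_qa_cube).symm

theorem Links.three_at_qa : (K.qc * K.qr) ^ 3 = 1 ∧ ∀ z, Commute z K.qa → IsConj K.qc z →
    z ≠ K.qa → z = K.qc ∨ z = K.qr ∨ z = K.qc * K.qr * K.qc :=
  K.three_pair hs (K.isConj_qc_qa hs) K.commute_qc_qa (IsConj.refl _) K.qc_ne_qa K.qa_qr.symm
    (K.conj_qr hs) K.qr_ne_qa K.qr_ne_qc.symm

theorem Links.qc_ql_cube : (K.qc * K.ql) ^ 3 = 1 :=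
  (K.three_pair hs (K.conj_qb hs) K.commute_qc_qb (IsConj.refl _) K.qc_ne_qb K.ql_qb
    (K.conj_ql hs) K.ql_ne_qb K.ql_ne_qc.symm).1

/-- the two links commute in the quotient -/
theorem Links.ql_qr : Commute K.ql K.qr := by
  set σ25 : Perm (Fin 6) := swap 4 5 * swap 3 4 * swap 2 3 * swap 3 4 * swap 4 5 with hσ25
  have h25 : σ25 * swap 0 1 = swap 0 1 * σ25 := by rw [hσ25]; decide +kernel
  set w := K.q ⟨K.p2.φ σ25, K.p2_mem_M h25⟩ with hw
  have hwe : w = K.qb * K.qa * K.ql * K.qa * K.qb := by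
    rw [hw, Links.qb, Links.qa, Links.ql, ← map_mul, ← map_mul, ← map_mul, ← map_mul]
    refine congrArg K.q (Subtype.ext ?_)
    show K.p2.φ σ25 = S.b 1 * S.a 1 * K.p2.φ (swap 2 3) * S.a 1 * S.b 1
    rw [← K.p2.a_j, ← K.p2.b_j, ← map_mul, ← map_mul, ← map_mul, ← map_mul]
  have ha : (⟨K.p2.φ (swap 3 4), K.p2_mem_M (by decide +kernel)⟩ : K.M) = K.aM :=
    Subtype.ext K.p2.a_j
  have hwa : Commute w K.qa := by
    refine Commute.map (show Commute (⟨K.p2.φ σ25, K.p2_mem_M h25⟩ : K.M) K.aM from Subtype.ext ?_) K.q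
    show K.p2.φ σ25 * S.a 1 = S.a 1 * K.p2.φ σ25
    rw [← K.p2.a_j, ← map_mul, ← map_mul]
    exact congrArg K.p2.φ (by rw [hσ25]; decide +kernel)
  have hwne : w ≠ K.qa := fun h => by
    rcases K.lift_p2 h25 (τ := swap 3 4) (by decide +kernel) (by rw [ha]; exact h) with e | e <;>
      rw [hσ25] at e <;> exact absurd e (by decide +kernel)
  have hci : K.qc⁻¹ = K.qc := inv_eq_of_mul_eq_one_right K.qc_sq
  have hbc : IsConj K.qc (K.qc * w * K.qc) := (K.conj_ql hs).trans (isConj_iff.2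
    ⟨K.qc * K.qb * K.qa, by
      rw [hwe, mul_inv_rev, mul_inv_rev, hci, inv_eq_of_mul_eq_one_right K.qa_sq,
        inv_eq_of_mul_eq_one_right K.qb_sq]
      group⟩)
  have hne : K.qc * w * K.qc ≠ K.qa := fun h => hwne (by
    calc w = K.qc * K.qc * w * (K.qc * K.qc) := by rw [K.qc_sq, one_mul, mul_one]
      _ = K.qc * (K.qc * w * K.qc) * K.qc := by group
      _ = K.qc * K.qc * K.qa := by rw [h, mul_assoc, ← K.commute_qc_qa.eq, ← mul_assoc]
      _ = K.qa := by rw [K.qc_sq, one_mul])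
  have hkey : K.qc * w * K.qc = K.qr := by
    rcases (K.three_at_qa hs).2 _ ((K.commute_qc_qa.mul_left hwa).mul_left K.commute_qc_qa) hbc hne
      with e | e | e
    · exfalso
      have hwc : w = K.qc := by
        calc w = K.qc * K.qc * w * (K.qc * K.qc) := by rw [K.qc_sq, one_mul, mul_one]
          _ = K.qc * (K.qc * w * K.qc) * K.qc := by group
          _ = K.qc := by rw [e, K.qc_sq, one_mul]
      have hb : (⟨K.p2.φ (swap 4 5), K.p2_mem_M (by decide +kernel)⟩ : K.M) = K.bM :=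
        Subtype.ext K.p2.b_j
      have hcomm : σ25 * swap 4 5 * swap 0 1 = swap 0 1 * (σ25 * swap 4 5) := by
        rw [hσ25]; decide +kernel
      have hcomm' : swap 4 5 * σ25 * swap 0 1 = swap 0 1 * (swap 4 5 * σ25) := by
        rw [hσ25]; decide +kernel
      have := K.lift_p2 (σ := σ25 * swap 4 5) (τ := swap 4 5 * σ25) hcomm hcomm' (by
        have e1 : (⟨K.p2.φ (σ25 * swap 4 5), K.p2_mem_M hcomm⟩ : K.M) =
            (⟨K.p2.φ σ25, K.p2_mem_M h25⟩ : K.M) * K.bM := Subtype.ext (by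
          show K.p2.φ (σ25 * swap 4 5) = K.p2.φ σ25 * S.b 1
          rw [map_mul, K.p2.b_j])
        have e2 : (⟨K.p2.φ (swap 4 5 * σ25), K.p2_mem_M hcomm'⟩ : K.M) =
            K.bM * (⟨K.p2.φ σ25, K.p2_mem_M h25⟩ : K.M) := Subtype.ext (by
          show K.p2.φ (swap 4 5 * σ25) = S.b 1 * K.p2.φ σ25
          rw [map_mul, K.p2.b_j])
        rw [e1, e2, map_mul K.q, map_mul K.q]
        show w * K.qb = K.qb * w
        rw [hwc]
        exact K.commute_qc_qb.eq)
      rw [hσ25] at this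
      rcases this with e' | e' <;> exact absurd e' (by decide +kernel)
    · exact e
    · exfalso
      have hwr : w = K.qr := mul_left_cancel (mul_right_cancel e)
      rw [hw, Links.qr, K.q_eq] at hwr
      obtain ⟨x, hx, hxe⟩ := hwr
      have hxe' : K.p0.φ (swap 2 3) = K.p2.φ σ25 * x := hxe
      have hb0 : Commute (K.p2.φ (swap 1 2)) (K.p2.φ σ25 * x) := by
        rw [← hxe', K.p2.b_i]; exact (K.p0.cross _).2.symm
      have hb2 : Commute (K.p2.φ (swap 1 2)) (S.b 2) := (K.p2.cross _).2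
      have fin : ∀ τ : Perm (Fin 6), K.p2.φ (swap 1 2) * K.p2.φ τ = K.p2.φ τ * K.p2.φ (swap 1 2) →
          swap 1 2 * τ = τ * swap 1 2 := fun τ h => by
        rw [← mul_inv_eq_one]
        refine K.p2.map_eq_one ?_
        rw [map_mul, map_inv, map_mul, map_mul, h, mul_inv_cancel]
      rcases K.e_cases hx with rfl | rfl | rfl | rfl
      · rw [mul_one] at hb0
        have := fin _ hb0.eq
        rw [hσ25] at this
        exact absurd this (by decide +kernel)
      · rw [← K.p2.a_i, ← map_mul] at hb0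
        have := fin _ hb0.eq
        rw [hσ25] at this
        exact absurd this (by decide +kernel)
      · have h' := hb0.mul_right hb2.inv_right
        rw [mul_inv_cancel_right] at h'
        have := fin _ h'.eq
        rw [hσ25] at this
        exact absurd this (by decide +kernel)
      · have h' := hb0.mul_right hb2.inv_right
        rw [← mul_assoc (K.p2.φ σ25) (S.a 0), mul_inv_cancel_right, ← K.p2.a_i, ← map_mul] at h'
        have := fin _ h'.eq
        rw [hσ25] at this
        exact absurd this (by decide +kernel)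
  have hlc : K.ql * K.qc * K.ql = K.qc * K.ql * K.qc :=
    (braid_swap K.qc_sq K.ql_sq (K.qc_ql_cube hs)).symm
  have hla : K.ql * K.qa * K.ql = K.qa * K.ql * K.qa := braid_swap K.ql_sq K.qa_sq K.ql_qa_cube
  have hform : K.qr = K.qb * K.qa * (K.ql * K.qc * K.ql) * K.qa * K.qb := by
    rw [← hkey, hwe, hlc]
    have c1 : K.qc * (K.qb * K.qa) = K.qb * K.qa * K.qc :=
      (K.commute_qc_qb.mul_right K.commute_qc_qa).eq
    have c2 : K.qa * K.qb * K.qc = K.qc * (K.qa * K.qb) :=
      (K.commute_qc_qa.mul_right K.commute_qc_qb).eq.symm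
    calc K.qc * (K.qb * K.qa * K.ql * K.qa * K.qb) * K.qc
        = K.qc * (K.qb * K.qa) * K.ql * (K.qa * K.qb * K.qc) := by group
      _ = _ := by rw [c1, c2]; group
  show K.ql * K.qr = K.qr * K.ql
  have hfix : K.ql * K.qr * K.ql = K.qr := by
    have hlb : K.ql * K.qb = K.qb * K.ql := K.ql_qb.eq
    rw [hform]
    calc K.ql * (K.qb * K.qa * (K.ql * K.qc * K.ql) * K.qa * K.qb) * K.ql
        = (K.ql * K.qb) * K.qa * K.ql * K.qc * K.ql * K.qa * (K.qb * K.ql) := by group
      _ = (K.qb * K.ql) * K.qa * K.ql * K.qc * K.ql * K.qa * (K.ql * K.qb) :=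
        congrArg₂ (fun a b => a * K.qa * K.ql * K.qc * K.ql * K.qa * b) hlb hlb.symm
      _ = K.qb * (K.ql * K.qa * K.ql) * K.qc * (K.ql * K.qa * K.ql) * K.qb := by group
      _ = K.qb * K.qa * K.ql * (K.qa * K.qc * K.qa) * K.ql * K.qa * K.qb := by rw [hla]; group
      _ = _ := by
        rw [show K.qa * K.qc * K.qa = K.qc by
          rw [← K.commute_qc_qa.eq, mul_assoc, K.qa_sq, mul_one]]
        group
  calc K.ql * K.qr = K.ql * K.qr * (K.ql * K.ql) := by rw [K.ql_sq, mul_one]
    _ = K.qr * K.ql := by rw [← mul_assoc, hfix]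

/-- The two links commute. -/
theorem Links.commute_links : Commute (K.p2.φ (swap 2 3)) (K.p0.φ (swap 2 3)) := by
  set x := K.p2.φ (swap 2 3) with hxdef
  set y := K.p0.φ (swap 2 3) with hydef
  have hx : x * x = 1 := by rw [hxdef, ← map_mul, swap_mul_self, map_one]
  have hy : y * y = 1 := by rw [hydef, ← map_mul, swap_mul_self, map_one]
  have hlr := K.ql_qr hs
  have hyM : y ∈ K.M := K.rM.2
  have hxM : x ∈ K.M := K.lM.2
  rw [Links.ql, Links.qr, Commute, SemiconjBy, ← map_mul, ← map_mul, K.q_eq] at hlr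
  obtain ⟨e, he, h⟩ := hlr
  have h' : y * x = x * y * e := h
  have he2 := K.e_sq he
  have hye : Commute y e := K.commute_e hyM he
  have hxe : Commute x e := K.commute_e hxM he
  have hyx : x * y * x = y * e := by
    calc x * y * x = x * (y * x) := by group
      _ = (x * x) * y * e := by rw [h']; group
      _ = y * e := by rw [hx, one_mul]
  have hxy : y * x * y = x * e := by
    calc y * x * y = x * y * (e * y) := by rw [h']; group
      _ = x * (y * y) * e := by rw [← hye.eq]; group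
      _ = x * e := by rw [hy, mul_one]
  suffices he1 : e = 1 by
    rw [he1, mul_one] at h'
    exact h'.symm
  have hza : Commute x (S.a 2) := (K.p2.cross _).1
  have hya2 : (y * S.a 2) ^ 3 = 1 := by
    rw [hydef, ← K.p0.a_j, ← map_mul, ← map_pow, ← map_one K.p0.φ]
    exact congrArg K.p0.φ (by decide +kernel)
  rcases K.e_cases he with e' | e' | e' | e'
  · exact e'
  · exact eq_one_of_twist hx he2 hy (S.sq 2) hya2 hza hye (e'.symm ▸ S.commute_aa 2 0) hyx
  · have hzb : Commute y (S.b 0) := (K.p0.cross _).2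
    have hxb : (x * S.b 0) ^ 3 = 1 := by
      rw [hxdef, ← K.p2.b_i, ← map_mul, ← map_pow, ← map_one K.p2.φ]
      exact congrArg K.p2.φ (by decide +kernel)
    exact eq_one_of_twist hy he2 hx (S.b_sq 0) hxb hzb hxe (e'.symm ▸ S.commute_bb (by decide)) hxy
  · exfalso
    -- otherwise `a 0` centralises the first three-cycle
    subst e'
    set z := S.a 2 with hzdef
    have hz : z * z = 1 := S.sq 2
    have hb := braid_swap hy hz hya2
    have hmm : ∀ a b, x * a * x * (x * b * x) = x * (a * b) * x := fun a b => by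
      calc x * a * x * (x * b * x) = x * a * (x * x) * b * x := by group
        _ = _ := by rw [hx, mul_one, mul_assoc x a b]
    have hxzx : x * z * x = z := by rw [hza.eq, mul_assoc, hx, mul_one]
    set a0 := S.a 0 with ha0
    set b2 := S.b 2 with hb2
    have h1 : y * (a0 * b2) * z * (y * (a0 * b2)) = z * (y * (a0 * b2)) * z := by
      have l : x * (y * z * y) * x = y * (a0 * b2) * z * (y * (a0 * b2)) := by
        rw [← hmm, ← hmm, hyx, hxzx]
      have r : x * (z * y * z) * x = z * (y * (a0 * b2)) * z := by rw [← hmm, ← hmm, hyx, hxzx]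
      rw [← l, ← r, hb]
    have cya : Commute y a0 := (K.p0.cross _).1
    have cza : Commute z a0 := S.commute_aa 2 0
    have cba : Commute b2 a0 := (S.commute_ab (by decide)).symm
    have l : y * (a0 * b2) * z * (y * (a0 * b2)) = y * b2 * z * y * b2 := by
      calc y * (a0 * b2) * z * (y * (a0 * b2)) = y * a0 * (b2 * z * y) * a0 * b2 := by group
        _ = a0 * (y * (b2 * z * y)) * a0 * b2 := by rw [cya.eq]; group
        _ = (y * (b2 * z * y)) * (a0 * a0) * b2 := by
          rw [← (cya.mul_left ((cba.mul_left cza).mul_left cya)).eq]; group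
        _ = _ := by rw [ha0, S.sq, mul_one]; group
    have r : z * (y * (a0 * b2)) * z = z * y * b2 * z * a0 := by
      calc z * (y * (a0 * b2)) * z = z * y * (a0 * (b2 * z)) := by group
        _ = _ := by rw [← (cba.mul_left cza).eq]; group
    rw [l, r] at h1
    have c0 : ∀ {g : G}, (g = y ∨ g = z ∨ g = b2) → Commute g (C.pt (bas 0)) := by
      rintro g (rfl | rfl | rfl)
      · exact K.p0.cent _
      · exact S.a_commute_pt (by decide)
      · exact S.b_commute_pt (by decide)
    have hy0 := c0 (Or.inl rfl)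
    have hz0 := c0 (Or.inr (Or.inl rfl))
    have hb0 := c0 (Or.inr (Or.inr rfl))
    have hl : Commute (y * b2 * z * y * b2) (C.pt (bas 0)) :=
      (((hy0.mul_left hb0).mul_left hz0).mul_left hy0).mul_left hb0
    have hr : Commute (z * y * b2 * z) (C.pt (bas 0)) :=
      ((hz0.mul_left hy0).mul_left hb0).mul_left hz0
    have hfin : Commute a0 (C.pt (bas 0)) := by
      have := hr.inv_left.mul_left hl
      rwa [h1, inv_mul_cancel_left] at this
    have h2 := S.a_conj 0 (bas 0)
    rw [hfin.eq, mul_assoc, ha0, S.sq, mul_one, (flip1_facts 0 0).2.1] at h2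
    exact (bas_facts 0).1 (eq_zero_of_eq_neg _ (C.pt_inj h2))

end CfsgLib.Recog.SymNine
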