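import Cfsg.Agent.Lib.Recog.SymNine.Emb.Glue
import Cfsg.Agent.Lib.Recog.SymNine.Group
import Cfsg.Agent.S3331

/-!
# The centraliser of two disjoint transpositions
-/

set_option autoImplicit false

namespace CfsgLib.Recog.SymNine

universe u

open Equiv

set_option synthInstance.maxSize 4000 in
theorem five_facts :
    (swap (0 : Fin 5) 4 * swap 1 2 = swap 1 2 * swap 0 4) ∧
    (∀ σ : Perm (Fin 5), σ * σ = 1 → σ ≠ 1 →
      (∃ g, g * σ * g⁻¹ = swap 0 4) ∨ (∃ g, g * σ * g⁻¹ = swap 0 4 * swap 1 2)) ∧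
    (∃ g : Perm (Fin 5), g * swap 0 4 * g⁻¹ = swap 0 1) ∧
    (∃ σ τ : Perm (Fin 5), Perm.sign σ = 1 ∧ Perm.sign τ = 1 ∧ σ ^ 5 = 1 ∧ τ ^ 5 = 1 ∧
      (σ * τ) ^ 3 = 1 ∧ σ * τ ≠ 1) := by decide +kernel

variable {G : Type u} [Group G] {C : Cube G allX} {S : Gens C} (K : Links S) [Finite G]

/-- an element commuting with the middle three-cycle in the quotient -/
theorem Links.form_of_commute_qu {x : K.L} (h : Commute x K.qu) :
    ∃ (i : ℕ) (δ : Bool), x = (if δ then K.qc else 1) * K.qu ^ i := by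
  obtain ⟨g, rfl⟩ := K.q_surjective x
  rw [K.qu_eq K.u_mem, Commute, SemiconjBy, ← map_mul, ← map_mul, K.q_eq] at h
  obtain ⟨e, he, h⟩ := h
  set u := C.pt (bas 1) with hu
  have h' : u * (g : G) = g * u * e := h
  have he2 := K.e_sq he
  have hue : Commute u e := K.commute_e K.u_mem he
  have hge : Commute (g : G) e := K.commute_e g.2 he
  have hg : (g : G) * u * (g : G)⁻¹ = u * e := by
    calc (g : G) * u * (g : G)⁻¹ = (g * u * e) * e⁻¹ * (g : G)⁻¹ := by group
      _ = u * (g * e⁻¹ * (g : G)⁻¹) := by rw [← h']; group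
      _ = u * e := by
        rw [hge.inv_right.eq, mul_inv_cancel_right, inv_eq_of_mul_eq_one_right he2]
  have he1 : e = 1 := by
    have h3 := congrArg (· ^ 3) hg
    simp only [conj_pow, hu, C.pt_cube, mul_one, mul_inv_cancel] at h3
    rw [hue.mul_pow, C.pt_cube, one_mul, pow_succ, pow_two, he2, one_mul] at h3
    exact h3.symm
  rw [he1, mul_one] at hg
  obtain ⟨i, δ, hi⟩ := K.form_of_commute_u (g := g) (mul_inv_eq_iff_eq_mul.1 hg)
  exact ⟨i, δ, hi⟩

/-- The quotient is generated by the four adjacent transpositions. -/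
theorem Links.closure_eq_top (hs : C.SixCase) :
    Subgroup.closure ({K.ql, K.qa, K.qb, K.qr} : Set K.L) = ⊤ := by
  classical
  let s : ℕ → K.L := fun n => [K.ql, K.qa, K.qb, K.qr].getD n 1
  obtain ⟨φ, hφ, hφr⟩ := CfsgLib.Recog.SymTwoCentralizers.exists_hom (n := 4) s
    (fun n hn => by
      interval_cases n
      exacts [K.ql_sq, K.qa_sq, K.qb_sq, K.qr_sq])
    (fun n hn => by
      have : n < 3 := by omega
      interval_cases n
      exacts [K.ql_qa_cube, K.qa_qb_cube, K.qb_qr_cube])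
    (fun m n hmn hn => by
      have : m < 2 := by omega
      interval_cases n <;> interval_cases m
      all_goals first | omega | exact K.ql_qb | exact K.ql_qr hs | exact K.qa_qr)
  have f01 : φ (swap 0 1) = K.ql := hφ 0
  have f12 : φ (swap 1 2) = K.qa := hφ 1
  have f23 : φ (swap 2 3) = K.qb := hφ 2
  have f34 : φ (swap 3 4) = K.qr := hφ 3
  have hinj : Function.Injective φ :=
    CfsgLib.Recog.SymTwoCentralizers.injective_of_hom (n := 4) le_rfl φ 1 2 rfl (by
      show φ (swap 1 2) ≠ φ (swap 2 3)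
      rw [f12, f23]
      exact fun e => K.not_commute_qa_qb (by rw [e]))
  set H := φ.range with hH
  suffices hL : H = ⊤ by
    rw [← hL, hφr]
    congr 1
    ext x
    simp only [Set.mem_insert_iff, Set.mem_singleton_iff, Set.mem_range]
    constructor
    · rintro (rfl | rfl | rfl | rfl)
      exacts [⟨0, rfl⟩, ⟨1, rfl⟩, ⟨2, rfl⟩, ⟨3, rfl⟩]
    · rintro ⟨i, rfl⟩
      fin_cases i <;> simp [s]
  have cfact := five_facts
  -- the linking transposition
  have hc : φ (swap 0 4) = K.qc := by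
    set w := φ (swap (0 : Fin 5) 4) with hw
    have hwa : Commute w K.qa := by
      rw [← f12, Commute, SemiconjBy, hw, ← map_mul, ← map_mul, cfact.1]
    have hwc : IsConj K.qc w := by
      obtain ⟨g, hg⟩ := cfact.2.2.1
      refine (K.conj_ql hs).trans (isConj_iff.2 ⟨φ g⁻¹, ?_⟩)
      rw [← f01, ← map_inv, ← map_mul, ← map_mul, ← hg, hw]
      congr 1
      group
    have hwb : Commute w K.qb := by
      rw [← f23, Commute, SemiconjBy, hw, ← map_mul, ← map_mul,
        show swap (0 : Fin 5) 4 * swap 2 3 = swap 2 3 * swap 0 4 by decide +kernel]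
    rcases (K.three_at_qa hs).2 w hwa hwc (fun e => by
      rw [← f12] at e
      exact absurd (hinj e) (by decide +kernel)) with e | e | e
    · exact e
    · rw [← f34] at e
      exact absurd (hinj e) (by decide +kernel)
    · exfalso
      have hr : K.qr = K.qc * w * K.qc := by
        rw [e]
        calc K.qr = K.qc * K.qc * K.qr * (K.qc * K.qc) := by rw [K.qc_sq, one_mul, mul_one]
          _ = _ := by group
      have hcb : Commute K.qr K.qb := by
        rw [hr]
        exact (K.commute_qc_qb.mul_left hwb).mul_left K.commute_qc_qb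
      exact K.qb_ne_qr (eq_of_cube_commute K.qb_sq K.qr_sq K.qb_qr_cube hcb.symm)
  have cH : K.qc ∈ H := ⟨_, hc⟩
  have aH : K.qa ∈ H := ⟨_, f12⟩
  have uH : K.qu ∈ H := mul_mem aH ⟨_, f23⟩
  have hCH : ∀ k : K.L, Commute k K.qc → k ∈ H := by
    intro k hk
    obtain ⟨δ, ε, i, rfl⟩ := K.form_of_commute_qc hs hk
    refine mul_mem (mul_mem ?_ (pow_mem uH i)) ?_
    · cases δ
      · exact one_mem H
      · exact cH
    · cases ε
      · exact one_mem H
      · exact aH
  -- conjugates inside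
  have hcls : ∀ (σ : Perm (Fin 5)) (k : K.L), φ σ = k⁻¹ * K.qc * k →
      ∃ g, g * σ * g⁻¹ = swap 0 4 := by
    intro σ k hσ
    have h2 : σ * σ = 1 := hinj (by
      rw [map_mul, map_one, hσ,
        show k⁻¹ * K.qc * k * (k⁻¹ * K.qc * k) = k⁻¹ * (K.qc * K.qc) * k by group, K.qc_sq,
        mul_one, inv_mul_cancel])
    have h1 : σ ≠ 1 := by
      rintro rfl
      rw [map_one] at hσ
      exact K.qc_ne_one (by
        calc K.qc = k * (k⁻¹ * K.qc * k) * k⁻¹ := by group
          _ = 1 := by rw [← hσ, mul_one, mul_inv_cancel])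
    refine (cfact.2.1 σ h2 h1).resolve_right ?_
    rintro ⟨g, hg⟩
    refine K.not_conj_qc hs (φ g * k⁻¹) ?_
    have h := congrArg φ hg
    rw [map_mul, map_mul, map_mul, map_inv, hc, f12, hσ] at h
    rw [mul_inv_rev, inv_inv, ← h]
    group
  have : Fact (Nat.Prime 2) := ⟨Nat.prime_two⟩
  have hodd : ¬ 2 ∣ H.index := by
    refine index_not_dvd (i := K.qc) (by rw [pow_two, K.qc_sq]) cH (fun k hk => ?_) hCH
    obtain ⟨σ, hσ⟩ := hk
    obtain ⟨g, hg⟩ := hcls σ k hσ
    refine ⟨φ g⁻¹, ⟨_, rfl⟩, ?_⟩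
    rw [← hσ, ← hc, ← map_inv, ← map_mul, ← map_mul, ← hg]
    congr 1
    group
  -- the transfer of the sign
  let sgn : H →* ℤˣ := Perm.sign.comp (MonoidHom.ofInjective hinj).symm.toMonoidHom
  have hsgn : ∀ σ (h : φ σ ∈ H), sgn ⟨φ σ, h⟩ = Perm.sign σ := by
    intro σ h
    show Perm.sign ((MonoidHom.ofInjective hinj).symm ⟨φ σ, h⟩) = _
    congr 1
    rw [MulEquiv.symm_apply_eq]
    exact Subtype.ext rfl
  have hVc : sgn.transfer K.qc = -1 := by
    have hconj : ∀ (k : K.L) (hk : k⁻¹ * K.qc * k ∈ H), sgn ⟨k⁻¹ * K.qc * k, hk⟩ = -1 := by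
      intro k hk
      obtain ⟨σ, hσ⟩ := id hk
      obtain ⟨g, hg⟩ := hcls σ k hσ
      have hm : φ σ ∈ H := ⟨σ, rfl⟩
      have : (⟨k⁻¹ * K.qc * k, hk⟩ : H) = ⟨φ σ, hm⟩ := Subtype.ext hσ.symm
      rw [this, hsgn σ hm]
      have := congrArg Perm.sign hg
      rw [map_mul, map_mul, map_inv, mul_right_comm, mul_inv_cancel, one_mul,
        Perm.sign_swap (by decide)] at this
      exact this
    rw [transfer_eq_pow sgn Nat.prime_two (fun a => Int.units_sq a)
      (by rw [pow_two, K.qc_sq]) hconj]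
    exact (Nat.odd_iff.2 (by omega)).neg_one_pow
  set L1 := sgn.transfer.ker with hL1
  have hL1i : L1.index = 2 := by
    rw [hL1, Subgroup.index_ker, MonoidHom.range_eq_top.2, Subgroup.card_top]
    · simp
    · intro a
      rcases Int.units_eq_one_or a with rfl | rfl
      · exact ⟨1, map_one _⟩
      · exact ⟨K.qc, hVc⟩
  have odd_mem : ∀ {x : K.L} {p : ℕ}, Odd p → x ^ p = 1 → x ∈ L1 := by
    intro x p hp hx
    rw [hL1, MonoidHom.mem_ker]
    have := congrArg sgn.transfer hx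
    rw [map_pow, map_one] at this
    rcases Int.units_eq_one_or (sgn.transfer x) with e | e
    · exact e
    · rw [e, hp.neg_one_pow] at this
      exact absurd this (by decide)
  have uL1 : K.qu ∈ L1 := odd_mem ⟨1, rfl⟩ K.qu_cube
  have hcL1 : K.qc ∉ L1 := fun h => by
    rw [hL1, MonoidHom.mem_ker, hVc] at h
    exact absurd h (by decide)
  set Y : Subgroup L1 := Subgroup.zpowers ⟨K.qu, uL1⟩ with hY
  have hYc : Nat.card Y = 3 := by
    rw [hY, Nat.card_zpowers, ← Subgroup.orderOf_coe]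
    exact orderOf_eq_prime (hp := ⟨Nat.prime_three⟩) K.qu_cube K.qu_ne_one
  have hcent : Subgroup.centralizer (Y : Set L1) = Y := by
    refine le_antisymm (fun y hy => ?_) (Subgroup.le_centralizer Y)
    have h := congrArg Subtype.val (Subgroup.mem_centralizer_iff.1 hy _ (Subgroup.mem_zpowers _))
    obtain ⟨i, δ, hi⟩ := K.form_of_commute_qu (x := (y : K.L)) h.symm
    cases δ
    · simp only [Bool.false_eq_true, if_false, one_mul] at hi
      exact Subgroup.mem_zpowers_iff.2 ⟨i, Subtype.ext (by rw [zpow_natCast]; exact hi.symm)⟩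
    · simp only [if_true] at hi
      refine absurd ?_ hcL1
      have : K.qc = (y : K.L) * (K.qu ^ i)⁻¹ := by rw [hi, mul_inv_cancel_right]
      rw [this]
      exact mul_mem y.2 (inv_mem (pow_mem uL1 i))
  have h120 : Nat.card H = 120 := by
    rw [hH, ← Nat.card_congr (MonoidHom.ofInjective hinj).toEquiv, Nat.card_perm, Nat.card_fin]
    rfl
  have hL : Nat.card K.L = 120 * H.index := by rw [← Subgroup.card_mul_index H, h120]
  have hL' : Nat.card K.L = Nat.card L1 * 2 := by rw [← Subgroup.card_mul_index L1, hL1i]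
  rcases Cfsg.Agent.S3331.result Y hYc hcent with
    ⟨W, hW, -, hcop, hq⟩ | ⟨W, hW, -, hW2, ⟨e⟩⟩ | ⟨⟨e⟩⟩
  · exfalso
    obtain ⟨σ, τ, -, -, hσ, hτ, hστ, hne⟩ := cfact.2.2.2
    have hd : Nat.card (L1 ⧸ W) ∣ 6 := by
      rcases hq with h | ⟨⟨e⟩⟩
      · rw [h]; norm_num
      · rw [Nat.card_congr e.toEquiv, Nat.card_perm, Nat.card_fin]; norm_num [Nat.factorial]
    have five : ∀ ρ : Perm (Fin 5), ρ ^ 5 = 1 →
        ∃ h : φ ρ ∈ L1, (⟨φ ρ, h⟩ : L1) ∈ W := by
      intro ρ hρ
      have h5 : φ ρ ^ 5 = 1 := by rw [← map_pow, hρ, map_one]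
      refine ⟨odd_mem ⟨2, rfl⟩ h5, (QuotientGroup.eq_one_iff _).1 ?_⟩
      set y : L1 ⧸ W := ((⟨φ ρ, _⟩ : L1) : L1 ⧸ W)
      have h1 : y ^ 5 = 1 := by
        rw [← QuotientGroup.mk_pow, QuotientGroup.eq_one_iff]
        convert W.one_mem
        exact Subtype.ext h5
      have hg : orderOf y ∣ Nat.gcd 5 6 := Nat.dvd_gcd (orderOf_dvd_of_pow_eq_one h1)
        ((orderOf_dvd_natCard y).trans hd)
      exact orderOf_eq_one_iff.1 (Nat.dvd_one.1 (by simpa using hg))
    obtain ⟨h1, m1⟩ := five σ hσ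
    obtain ⟨h2, m2⟩ := five τ hτ
    have hm := W.mul_mem m1 m2
    set z : W := ⟨_, hm⟩
    have hz : z ^ 3 = 1 := by
      refine Subtype.ext (Subtype.ext ?_)
      show (φ σ * φ τ) ^ 3 = 1
      rw [← map_mul, ← map_pow, hστ, map_one]
    have hg : orderOf z ∣ Nat.gcd (Nat.card W) 3 :=
      Nat.dvd_gcd (orderOf_dvd_natCard z) (orderOf_dvd_of_pow_eq_one hz)
    rw [hcop.gcd_eq_one] at hg
    have h0 := congrArg (fun w : W => ((w : L1) : K.L)) (orderOf_eq_one_iff.1 (Nat.dvd_one.1 hg))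
    exact hne (hinj (by rw [map_mul, map_one]; exact h0))
  · rw [← Subgroup.index_eq_one]
    have hW2' : IsPGroup 2 W := fun w => ⟨1, Subtype.ext (hW2 w w.2)⟩
    obtain ⟨n, hn⟩ := hW2'.exists_card_eq
    have hA : Nat.card (L1 ⧸ W) = 60 := by
      rw [Nat.card_congr e.toEquiv, Nat.card_eq_fintype_card]
      decide +kernel
    rw [W.card_eq_card_quotient_mul_card_subgroup, hA, hn] at hL'
    have hidx : H.index = 2 ^ n := by omega
    rcases Nat.eq_zero_or_pos n with rfl | hpos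
    · simpa using hidx
    · exact absurd (hidx ▸ dvd_pow_self 2 hpos.ne') hodd
  · exfalso
    have h168 : Nat.card L1 = 168 := by
      rw [Nat.card_congr e.toEquiv]
      exact card_psl_seven
    omega

/-- The centraliser of the two outer transpositions lies in every subgroup containing the six
transpositions in the blocks and the two linking ones. -/
theorem Links.mem_of_pair (hs : C.SixCase) (H : Subgroup G) (ha : ∀ i, S.a i ∈ H)
    (hb : ∀ i, S.b i ∈ H) (hl : K.p2.φ (swap 2 3) ∈ H) (hr : K.p0.φ (swap 2 3) ∈ H)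
    {g : G} (hga : Commute g (S.a 0)) (hgb : Commute g (S.b 2)) : g ∈ H := by
  have hg : g ∈ K.M := K.mem_M.2 ⟨hga, hgb⟩
  have hle : Subgroup.closure ({K.ql, K.qa, K.qb, K.qr} : Set K.L) ≤
      (H.subgroupOf K.M).map K.q := by
    rw [Subgroup.closure_le]
    rintro x (rfl | rfl | rfl | rfl)
    · exact ⟨K.lM, hl, rfl⟩
    · exact ⟨K.aM, ha 1, rfl⟩
    · exact ⟨K.bM, hb 1, rfl⟩
    · exact ⟨K.rM, hr, rfl⟩
  rw [K.closure_eq_top hs] at hle
  obtain ⟨y, hy, hye⟩ := hle (Subgroup.mem_top (K.q ⟨g, hg⟩))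
  obtain ⟨e, he, hge⟩ := K.q_eq.1 hye
  have : e ∈ H := by
    rcases K.e_cases he with rfl | rfl | rfl | rfl
    exacts [one_mem H, ha 0, hb 2, mul_mem (ha 0) (hb 2)]
  show g ∈ H
  rw [show g = (y : G) * e from hge]
  exact mul_mem (Subgroup.mem_subgroupOf.1 hy) this

end CfsgLib.Recog.SymNine
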