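import Cfsg.Agent.Lib.Recog.SymNine.Emb.Three

/-!
# The centraliser of two disjoint transpositions modulo the four group they generate
-/

set_option autoImplicit false

namespace CfsgLib.Recog.SymNine

universe u

open Equiv

variable {G : Type u} [Group G] {C : Cube G allX} {S : Gens C}

/-- the three symmetric groups on two blocks -/
structure Links (S : Gens C) where
  /-- the blocks one and two -/
  p0 : Pair S 0 1 2
  /-- the blocks zero and two -/
  p1 : Pair S 1 0 2
  /-- the blocks zero and one -/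
  p2 : Pair S 2 0 1

theorem exists_links [Finite G] (hs : C.SixCase) (S : Gens C) : Nonempty (Links S) := by
  obtain ⟨a⟩ := exists_pair S hs (k := 0) (i := 1) (j := 2) (by decide) (by decide) (by decide)
  obtain ⟨b⟩ := exists_pair S hs (k := 1) (i := 0) (j := 2) (by decide) (by decide) (by decide)
  obtain ⟨c⟩ := exists_pair S hs (k := 2) (i := 0) (j := 1) (by decide) (by decide) (by decide)
  exact ⟨⟨a, b, c⟩⟩

/-- the four group generated by the two outer transpositions -/
def outerList : List (Perm (Fin 6)) := [1, swap 0 1, swap 4 5, swap 0 1 * swap 4 5]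

set_option synthInstance.maxSize 4000 in
theorem outer_facts : (∀ a ∈ outerList, ∀ b ∈ outerList, a * b ∈ outerList) ∧
    (∀ a ∈ outerList, a⁻¹ = a ∧ a * a = 1) ∧
    (∀ σ : Perm (Fin 6), σ * swap 0 1 = swap 0 1 * σ → σ * swap 4 5 = swap 4 5 * σ →
      ∃ e ∈ outerList, σ = e ∨ σ = e * swap 2 3) ∧
    (∀ σ : Perm (Fin 6), TriMid σ → σ * σ = 1) := by decide +kernel

/-- the outer four group -/
def outerGroup : Subgroup (Perm (Fin 6)) where
  carrier := {σ | σ ∈ outerList}
  one_mem' := by simp [outerList]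
  mul_mem' := fun ha hb => outer_facts.1 _ ha _ hb
  inv_mem' := fun ha => by rw [Set.mem_setOf_eq, (outer_facts.2.1 _ ha).1]; exact ha

theorem mem_outerGroup {σ : Perm (Fin 6)} :
    σ ∈ outerGroup ↔ σ = 1 ∨ σ = swap 0 1 ∨ σ = swap 4 5 ∨ σ = swap 0 1 * swap 4 5 := by
  show σ ∈ outerList ↔ _
  simp [outerList]

variable (K : Links S)

/-- the centraliser of the two outer transpositions -/
@[nolint unusedArguments]
def Links.M (_K : Links S) : Subgroup G := Subgroup.centralizer ({S.a 0, S.b 2} : Set G)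

theorem Links.mem_M {g : G} : g ∈ K.M ↔ Commute g (S.a 0) ∧ Commute g (S.b 2) := by
  rw [Links.M, Subgroup.mem_centralizer_iff]
  refine ⟨fun h => ⟨(h _ (by simp)).symm, (h _ (by simp)).symm⟩, fun h y hy => ?_⟩
  rcases hy with rfl | rfl
  · exact h.1.eq.symm
  · exact h.2.eq.symm

/-- the four group in it -/
def Links.E : Subgroup K.M := (outerGroup.map K.p1.φ).subgroupOf K.M

theorem Links.e_cases {g : G} (h : g ∈ outerGroup.map K.p1.φ) :
    g = 1 ∨ g = S.a 0 ∨ g = S.b 2 ∨ g = S.a 0 * S.b 2 := by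
  obtain ⟨σ, hσ, rfl⟩ := h
  rcases mem_outerGroup.1 hσ with rfl | rfl | rfl | rfl
  · exact Or.inl (map_one _)
  · exact Or.inr (Or.inl K.p1.a_i)
  · exact Or.inr (Or.inr (Or.inl K.p1.b_j))
  · exact Or.inr (Or.inr (Or.inr (by rw [map_mul, K.p1.a_i, K.p1.b_j])))

theorem Links.a_zero_mem : S.a 0 ∈ outerGroup.map K.p1.φ :=
  ⟨swap 0 1, mem_outerGroup.2 (Or.inr (Or.inl rfl)), K.p1.a_i⟩

theorem Links.e_sq {g : G} (h : g ∈ outerGroup.map K.p1.φ) : g * g = 1 := by
  obtain ⟨σ, hσ, rfl⟩ := h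
  rw [← map_mul, (outer_facts.2.1 σ hσ).2, map_one]

theorem Links.commute_e {g : G} (hg : g ∈ K.M) {e : G} (he : e ∈ outerGroup.map K.p1.φ) :
    Commute g e := by
  obtain ⟨h1, h2⟩ := K.mem_M.1 hg
  rcases K.e_cases he with rfl | rfl | rfl | rfl
  exacts [Commute.one_right _, h1, h2, h1.mul_right h2]

theorem Links.E_le_center : K.E ≤ Subgroup.center K.M := fun _ hx =>
  Subgroup.mem_center_iff.2 fun y =>
    Subtype.ext (K.commute_e y.2 (Subgroup.mem_subgroupOf.1 hx)).eq

instance Links.E_normal : K.E.Normal :=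
  ⟨fun z hz m => by
    rw [Subgroup.mem_center_iff.1 (K.E_le_center hz) m, mul_inv_cancel_right]; exact hz⟩

/-- the quotient -/
abbrev Links.L : Type u := K.M ⧸ K.E

/-- the quotient map -/
def Links.q : K.M →* K.L := QuotientGroup.mk' K.E

theorem Links.q_surjective : Function.Surjective K.q := QuotientGroup.mk'_surjective _

theorem Links.q_eq {x y : K.M} :
    K.q x = K.q y ↔ ∃ e ∈ outerGroup.map K.p1.φ, (y : G) = x * e := by
  refine (QuotientGroup.eq).trans ⟨fun h => ⟨_, Subgroup.mem_subgroupOf.1 h, by simp⟩, ?_⟩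
  rintro ⟨e, he, hy⟩
  refine Subgroup.mem_subgroupOf.2 ?_
  rw [Subgroup.coe_mul, Subgroup.coe_inv, hy, inv_mul_cancel_left]
  exact he

/-- the transposition linking the outer blocks -/
def Links.cM : K.M := ⟨K.p1.φ (swap 2 3), K.mem_M.2
  ⟨by rw [← K.p1.a_i]; exact Commute.map (show Commute (swap (2 : Fin 6) 3) (swap 0 1) by
      show _ * _ = _ * _; decide +kernel) K.p1.φ,
   by rw [← K.p1.b_j]; exact Commute.map (show Commute (swap (2 : Fin 6) 3) (swap 4 5) by
      show _ * _ = _ * _; decide +kernel) K.p1.φ⟩⟩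
/-- the first middle transposition -/
def Links.aM : K.M := ⟨S.a 1, K.mem_M.2 ⟨S.commute_aa 1 0, S.commute_ab (by decide)⟩⟩
/-- the second middle transposition -/
def Links.bM : K.M := ⟨S.b 1, K.mem_M.2
  ⟨(S.commute_ab (by decide)).symm, S.commute_bb (by decide)⟩⟩
/-- the transposition linking the first two blocks -/
def Links.lM : K.M := ⟨K.p2.φ (swap 2 3), K.mem_M.2
  ⟨by rw [← K.p2.a_i]; exact Commute.map (show Commute (swap (2 : Fin 6) 3) (swap 0 1) by
      show _ * _ = _ * _; decide +kernel) K.p2.φ, (K.p2.cross _).2⟩⟩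
/-- the transposition linking the last two blocks -/
def Links.rM : K.M := ⟨K.p0.φ (swap 2 3), K.mem_M.2
  ⟨(K.p0.cross _).1, by rw [← K.p0.b_j]; exact Commute.map (show Commute (swap (2 : Fin 6) 3) (swap 4 5) by
      show _ * _ = _ * _; decide +kernel) K.p0.φ⟩⟩

/-- the image of the linking transposition -/
def Links.qc : K.L := K.q K.cM
/-- the image of the first middle transposition -/
def Links.qa : K.L := K.q K.aM
/-- the image of the second middle transposition -/
def Links.qb : K.L := K.q K.bM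
/-- the image of the middle three-cycle -/
def Links.qu : K.L := K.qa * K.qb

theorem Links.qu_eq (h : C.pt (bas 1) ∈ K.M) : K.qu = K.q ⟨C.pt (bas 1), h⟩ := by
  rw [Links.qu, Links.qa, Links.qb, ← map_mul]
  exact congrArg K.q (Subtype.ext (S.a_mul_b 1))

theorem Links.u_mem : C.pt (bas 1) ∈ K.M := K.mem_M.2
  ⟨(S.a_commute_pt (by decide)).symm, (S.b_commute_pt (by decide)).symm⟩

/-- an element commuting with the middle three-cycle -/
theorem Links.form_of_commute_u {g : K.M} (h : Commute (g : G) (C.pt (bas 1))) :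
    ∃ (i : ℕ) (δ : Bool), K.q g = (if δ then K.qc else 1) * K.qu ^ i := by
  obtain ⟨σ, z, hz, hg⟩ := K.p1.surj g h
  obtain ⟨u', hu', rfl⟩ := (C.mem_zpowers_pt (bas_facts 1).1).1 hz
  obtain ⟨i, hi⟩ : ∃ i : ℕ, C.pt u' = C.pt (bas 1) ^ i := by
    rcases inLine_iff.1 hu' with e | e | e
    · exact ⟨0, by rw [e, C.pt_zero, pow_zero]⟩
    · exact ⟨1, by rw [e, pow_one]⟩
    · exact ⟨2, by rw [e, pow_two, ← C.pt_add, add_self_eq_neg]⟩
  rw [hi] at hg
  have key : ∀ τ, Commute (g : G) (K.p1.φ τ) → σ * τ = τ * σ := fun τ hτ => by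
    rw [hg] at hτ
    have hz : Commute (C.pt (bas 1) ^ i) (K.p1.φ τ) := (K.p1.cent τ).symm.pow_left i
    have h' := hτ.mul_left hz.inv_left
    rw [mul_inv_cancel_right] at h'
    rw [← mul_inv_eq_one]
    refine K.p1.map_eq_one ?_
    rw [map_mul, map_inv, map_mul, map_mul, h'.eq, mul_inv_cancel]
  obtain ⟨h1, h2⟩ := K.mem_M.1 g.2
  obtain ⟨e, he, hσ | hσ⟩ := outer_facts.2.2.1 σ (key _ (by rw [K.p1.a_i]; exact h1))
    (key _ (by rw [K.p1.b_j]; exact h2))
  · refine ⟨i, false, ?_⟩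
    simp only [Bool.false_eq_true, if_false, one_mul]
    rw [K.qu_eq K.u_mem, ← map_pow, K.q_eq]
    refine ⟨(K.p1.φ e)⁻¹, inv_mem ⟨e, he, rfl⟩, ?_⟩
    rw [hg, hσ, SubgroupClass.coe_pow, ((K.p1.cent e).pow_right i).eq, mul_inv_cancel_right]
  · refine ⟨i, true, ?_⟩
    simp only [if_true]
    rw [K.qu_eq K.u_mem, Links.qc, ← map_pow, ← map_mul, K.q_eq]
    refine ⟨(K.p1.φ e)⁻¹, inv_mem ⟨e, he, rfl⟩, ?_⟩
    have hce : Commute (K.p1.φ e) (K.p1.φ (swap 2 3)) :=
      (K.commute_e K.cM.2 ⟨e, he, rfl⟩).symm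
    have hue : Commute (K.p1.φ e) (C.pt (bas 1) ^ i) := (K.p1.cent e).pow_right i
    rw [hg, hσ, map_mul]
    show K.p1.φ (swap 2 3) * C.pt (bas 1) ^ i = _
    rw [mul_assoc (K.p1.φ e), (hce.mul_right hue).eq,
      mul_inv_cancel_right]

theorem Links.qc_sq : K.qc * K.qc = 1 := by
  rw [Links.qc, ← map_mul, ← map_one K.q]
  refine congrArg K.q (Subtype.ext ?_)
  show K.p1.φ _ * K.p1.φ _ = 1
  rw [← map_mul, swap_mul_self, map_one]

theorem Links.qa_sq : K.qa * K.qa = 1 := by
  rw [Links.qa, ← map_mul, ← map_one K.q]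
  exact congrArg K.q (Subtype.ext (S.sq 1))

theorem Links.qb_sq : K.qb * K.qb = 1 := by
  rw [Links.qb, ← map_mul, ← map_one K.q]
  exact congrArg K.q (Subtype.ext (S.b_sq 1))

theorem Links.commute_qc_qa : Commute K.qc K.qa :=
  Commute.map (show Commute K.cM K.aM from Subtype.ext (K.p1.cross _).1.eq) K.q

theorem Links.commute_qc_qb : Commute K.qc K.qb :=
  Commute.map (show Commute K.cM K.bM from Subtype.ext (K.p1.cross _).2.eq) K.q

theorem Links.qu_cube : K.qu ^ 3 = 1 := by
  rw [K.qu_eq K.u_mem, ← map_pow, ← map_one K.q]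
  exact congrArg K.q (Subtype.ext (C.pt_cube _))

theorem Links.qu_ne_one : K.qu ≠ 1 := by
  rw [K.qu_eq K.u_mem, ← map_one K.q, Ne, K.q_eq]
  rintro ⟨e, he, h⟩
  have he2 := K.e_sq he
  have hu : C.pt (bas 1) = e := by
    rw [OneMemClass.coe_one] at h
    calc C.pt (bas 1) = C.pt (bas 1) * (e * e) := by rw [he2, mul_one]
      _ = C.pt (bas 1) * e * e := by rw [mul_assoc]
      _ = e := by rw [show C.pt (bas 1) * e = 1 from h.symm, one_mul]
  have h3 := C.pt_cube (bas 1)
  rw [hu, pow_succ, pow_two, he2, one_mul] at h3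
  exact C.pt_ne_one (bas_facts 1).1 (hu.trans h3)

/-- The centraliser of the linking transposition in the quotient. -/
theorem Links.form_of_commute_qc [Finite G] (hs : C.SixCase) {x : K.L} (h : Commute x K.qc) :
    ∃ (δ ε : Bool) (i : ℕ),
      x = (if δ then K.qc else 1) * K.qu ^ i * (if ε then K.qa else 1) := by
  obtain ⟨g, rfl⟩ := K.q_surjective x
  rw [Links.qc, Commute, SemiconjBy, ← map_mul, ← map_mul, K.q_eq] at h
  obtain ⟨e, he, hge⟩ := h
  simp only [Subgroup.coe_mul] at hge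
  set u := C.pt (bas 1) with hu
  set c : G := K.p1.φ (swap 2 3) with hc
  have hcM : (K.cM : G) = c := rfl
  rw [hcM] at hge
  have hgc : (g : G) * c * (g : G)⁻¹ = c * e := by
    have he' : Commute (g : G) e := K.commute_e g.2 he
    have he2 := K.e_sq he
    have : c * g = g * (c * e) := by rw [hge, mul_assoc]
    calc (g : G) * c * (g : G)⁻¹ = g * (c * e) * e⁻¹ * (g : G)⁻¹ := by group
      _ = c * g * e⁻¹ * (g : G)⁻¹ := by rw [this]
      _ = c * (g * e⁻¹ * (g : G)⁻¹) := by group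
      _ = c * e := by rw [he'.inv_right.eq, mul_inv_cancel_right, inv_eq_of_mul_eq_one_right he2]
  set y := (g : G) * u * (g : G)⁻¹ with hy
  obtain ⟨hga, hgb⟩ := K.mem_M.1 g.2
  have conjy : ∀ {t t' : G}, Commute u t → (g : G) * t * (g : G)⁻¹ = t' → Commute y t' :=
    fun {t t'} hut htt => htt ▸ (Commute.conj_iff (g : G)).2 hut
  have hua : Commute u (S.a 0) := (K.mem_M.1 K.u_mem).1
  have hub : Commute u (S.b 2) := (K.mem_M.1 K.u_mem).2
  have hya : Commute y (S.a 0) := conjy hua (by rw [hga.eq, mul_inv_cancel_right])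
  have hyb : Commute y (S.b 2) := conjy hub (by rw [hgb.eq, mul_inv_cancel_right])
  have hye : Commute y e := K.commute_e (K.mem_M.2 ⟨hya, hyb⟩) he
  have hyc : Commute y c := by
    have := (conjy (K.p1.cent _).symm hgc).mul_right hye.inv_right
    rwa [mul_inv_cancel_right] at this
  obtain ⟨σ, i, hσ, hform⟩ := exists_form_mid hs K.p1 hyc
    (by rw [K.p1.a_i]; exact hya) (by rw [K.p1.b_j]; exact hyb)
  have hσ2 : K.p1.φ σ * K.p1.φ σ = 1 := by rw [← map_mul, outer_facts.2.2.2 σ hσ, map_one]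
  have hy3 : y ^ 3 = 1 := by rw [hy, conj_pow, C.pt_cube, mul_one, mul_inv_cancel]
  have hy1 : y ≠ 1 := fun h1 => C.pt_ne_one (bas_facts 1).1 (conj_eq_one_iff.1 h1)
  have hσu : Commute (K.p1.φ σ) (u ^ i) := (K.p1.cent σ).pow_right i
  have hgu : ∃ ε : Bool, Commute ((g : G) * if ε then S.a 1 else 1) u := by
    rcases hform with hf | hf
    · -- the middle three-cycle is mapped to a power of itself
      have hσ1 : K.p1.φ σ = 1 := by
        have h3 := hy3
        rw [hf, hσu.mul_pow, ← pow_mul u, mul_comm i 3, pow_mul u, C.pt_cube, one_pow, mul_one,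
          pow_succ, pow_two, hσ2, one_mul] at h3
        exact h3
      rw [hσ1, one_mul, ← pow_mod_orderOf, show orderOf u = 3 from by
        have : Fact (Nat.Prime 3) := ⟨Nat.prime_three⟩
        exact orderOf_eq_prime (C.pt_cube _) (C.pt_ne_one (bas_facts 1).1)] at hf
      have : i % 3 < 3 := Nat.mod_lt _ (by norm_num)
      interval_cases hm : i % 3
      · exact absurd (hf.trans (pow_zero u)) hy1
      · exact ⟨false, mul_inv_eq_iff_eq_mul.1 (by
          simp only [Bool.false_eq_true, if_false, mul_one]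
          exact hf.trans (pow_one u))⟩
      · refine ⟨true, mul_inv_eq_iff_eq_mul.1 ?_⟩
        simp only [if_true]
        have hai : S.a 1 * u * (S.a 1)⁻¹ = u⁻¹ := by
          rw [hu, S.a_inv, S.a_conj, (flip1_facts 1 1).2.1, C.pt_neg]
        calc (g : G) * S.a 1 * u * ((g : G) * S.a 1)⁻¹
            = (g : G) * (S.a 1 * u * (S.a 1)⁻¹) * (g : G)⁻¹ := by group
          _ = y⁻¹ := by rw [hai, hy]; group
          _ = u := by
            rw [hf]
            exact inv_eq_of_mul_eq_one_right (by rw [← pow_succ]; exact C.pt_cube _)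
    · exfalso
      have hinv : u ^ i * S.a 1 * (u ^ i * S.a 1) = 1 := by
        have hai : S.a 1 * u * (S.a 1)⁻¹ = u⁻¹ := by
          rw [hu, S.a_inv, S.a_conj, (flip1_facts 1 1).2.1, C.pt_neg]
        calc u ^ i * S.a 1 * (u ^ i * S.a 1)
            = u ^ i * (S.a 1 * u ^ i * (S.a 1)⁻¹) * (S.a 1 * S.a 1) := by group
          _ = 1 := by rw [← conj_pow, hai, inv_pow, mul_inv_cancel, one_mul, S.sq]
      have hσw : Commute (K.p1.φ σ) (u ^ i * S.a 1) := hσu.mul_right (K.p1.cross σ).1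
      have hy2 : y * y = 1 := by
        rw [hf, mul_assoc (K.p1.φ σ) (u ^ i), ← pow_two, hσw.mul_pow, pow_two, pow_two, hσ2,
          one_mul, hinv]
      rw [pow_succ, pow_two, hy2, one_mul] at hy3
      exact hy1 hy3
  obtain ⟨ε, hε⟩ := hgu
  cases ε
  · simp only [Bool.false_eq_true, if_false, mul_one] at hε
    obtain ⟨j, δ, hj⟩ := K.form_of_commute_u (g := g) hε
    exact ⟨δ, false, j, by simpa using hj⟩
  · simp only [if_true] at hε
    obtain ⟨j, δ, hj⟩ := K.form_of_commute_u (g := g * K.aM) hε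
    refine ⟨δ, true, j, ?_⟩
    simp only [if_true]
    rw [← hj, map_mul, mul_assoc, ← Links.qa, K.qa_sq, mul_one]

/-- The linking transposition is not conjugate to its product with the first middle one. -/
theorem Links.not_conj_qc [Finite G] (hs : C.SixCase) (x : K.L) :
    x * K.qc * x⁻¹ ≠ K.qc * K.qa := by
  obtain ⟨g, rfl⟩ := K.q_surjective x
  rw [Links.qc, Links.qa, ← map_inv, ← map_mul, ← map_mul, ← map_mul, Ne, K.q_eq]
  rintro ⟨e, he, h⟩
  obtain ⟨hga, hgb⟩ := K.mem_M.1 g.2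
  refine not_conj_glue hs K.p1 K.p2 hga hgb (e := e) (K.e_cases he) ?_
  simp only [Subgroup.coe_mul, Subgroup.coe_inv] at h
  have he2 := K.e_sq he
  show (g : G) * K.cM * (g : G)⁻¹ = (K.cM : G) * (K.aM : G) * e
  rw [h, mul_assoc ((g : G) * _ * _) e e, he2, mul_one]

end CfsgLib.Recog.SymNine
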