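import Cfsg.Agent.Lib.Recog.SymNine.Emb.Classes
import Cfsg.Agent.Lib.Recog.SymNine.Count
import Cfsg.Agent.Lib.Recog.SymNine.Lift
import Cfsg.Agent.Lib.Coprime.Generation

/-!
# The centraliser of three disjoint transpositions
-/

set_option autoImplicit false

namespace CfsgLib.Recog.SymNine

universe u

open Equiv

/-- commutes with the three transpositions joining the two blocks -/
def TriStd (σ : Perm (Fin 6)) : Prop :=
  σ * swap 0 3 = swap 0 3 * σ ∧ σ * swap 1 4 = swap 1 4 * σ ∧ σ * swap 2 5 = swap 2 5 * σ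

/-- commutes with the middle transposition and the two outer ones -/
def TriMid (σ : Perm (Fin 6)) : Prop :=
  σ * swap 2 3 = swap 2 3 * σ ∧ σ * swap 0 1 = swap 0 1 * σ ∧ σ * swap 4 5 = swap 4 5 * σ

instance (σ : Perm (Fin 6)) : Decidable (TriStd σ) := by unfold TriStd; infer_instance
instance (σ : Perm (Fin 6)) : Decidable (TriMid σ) := by unfold TriMid; infer_instance

/-- the two cycles of three -/
abbrev rho : Perm (Fin 6) := swap 0 1 * swap 1 2 * (swap 3 4 * swap 4 5)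

theorem tri_list : ∀ σ : Perm (Fin 6), TriStd σ →
    σ ∈ ([1, swap 0 3, swap 1 4, swap 2 5, swap 0 3 * swap 1 4, swap 0 3 * swap 2 5,
      swap 1 4 * swap 2 5, swap 0 3 * swap 1 4 * swap 2 5] : List (Perm (Fin 6))) ∧
    σ * σ = 1 ∧ TriStd (rho * σ * rho⁻¹) := by decide +kernel

theorem mid_conj : ∃ σ' : Perm (Fin 6), σ' * swap 2 3 * σ'⁻¹ = swap 0 3 ∧
    σ' * swap 0 1 * σ'⁻¹ = swap 1 4 ∧ σ' * swap 4 5 * σ'⁻¹ = swap 2 5 := by decide +kernel

theorem plane_facts : ∀ i j : ZMod 3, ¬ inLine e1 (j, i, j) = true → 2 ≤ weight (j, i, j) := by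
  decide +kernel

variable {G : Type u} [Group G] {C : Cube G allX} {S : Gens C}

/-- The centraliser of three transpositions joining two blocks. -/
theorem exists_form_std [Finite G] (hs : C.SixCase) (P : Pair S 1 0 2) {g : G}
    (h1 : Commute g (P.φ (swap 0 3))) (h2 : Commute g (P.φ (swap 1 4)))
    (h3 : Commute g (P.φ (swap 2 5))) :
    ∃ (σ : Perm (Fin 6)) (i : ℕ), TriStd σ ∧
      (g = P.φ σ * C.pt (bas 1) ^ i ∨ g = P.φ σ * C.pt (bas 1) ^ i * S.a 1) := by
  classical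
  set u := C.pt (bas 1) with hu
  set M := Subgroup.centralizer
    ({P.φ (swap 0 3), P.φ (swap 1 4), P.φ (swap 2 5)} : Set G) with hM
  have memM : ∀ {x : G}, x ∈ M ↔ Commute x (P.φ (swap 0 3)) ∧ Commute x (P.φ (swap 1 4)) ∧
      Commute x (P.φ (swap 2 5)) := fun {x} => by
    rw [hM, Subgroup.mem_centralizer_iff]
    refine ⟨fun h => ⟨(h _ (by simp)).symm, (h _ (by simp)).symm, (h _ (by simp)).symm⟩,
      fun h y hy => ?_⟩
    rcases hy with rfl | rfl | rfl
    · exact h.1.eq.symm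
    · exact h.2.1.eq.symm
    · exact h.2.2.eq.symm
  have commM : ∀ {x : G}, x ∈ M → ∀ σ, TriStd σ → Commute x (P.φ σ) := by
    intro x hx σ hσ
    obtain ⟨q1, q2, q3⟩ := memM.1 hx
    have := (tri_list σ hσ).1
    simp only [List.mem_cons, List.not_mem_nil, or_false] at this
    rcases this with rfl | rfl | rfl | rfl | rfl | rfl | rfl | rfl <;>
      (try simp only [map_mul, map_one]) <;> first
      | exact Commute.one_right _
      | exact q1
      | exact q2
      | exact q3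
      | exact q1.mul_right q2
      | exact q1.mul_right q3
      | exact q2.mul_right q3
      | exact (q1.mul_right q2).mul_right q3
  let Tg : Subgroup (Perm (Fin 6)) :=
    { carrier := {σ | TriStd σ}
      one_mem' := by show TriStd 1; decide +kernel
      mul_mem' := fun {a b} ha hb => ⟨(Commute.mul_left (ha.1 : Commute a _) hb.1).eq,
        (Commute.mul_left (ha.2.1 : Commute a _) hb.2.1).eq,
        (Commute.mul_left (ha.2.2 : Commute a _) hb.2.2).eq⟩
      inv_mem' := fun {a} ha => ⟨(Commute.inv_left (ha.1 : Commute a _)).eq,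
        (Commute.inv_left (ha.2.1 : Commute a _)).eq, (Commute.inv_left (ha.2.2 : Commute a _)).eq⟩ }
  set T : Subgroup M := (Tg.map P.φ).subgroupOf M with hT
  have φM : ∀ {σ}, TriStd σ → P.φ σ ∈ M := fun {σ} hσ => memM.2
    ⟨(Commute.map (show Commute σ (swap 0 3) from hσ.1) P.φ),
      (Commute.map (show Commute σ (swap 1 4) from hσ.2.1) P.φ),
      (Commute.map (show Commute σ (swap 2 5) from hσ.2.2) P.φ)⟩
  have memT : ∀ {x : M}, x ∈ T ↔ ∃ σ, TriStd σ ∧ P.φ σ = x := fun {x} => Subgroup.mem_subgroupOf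
  have hTc : T ≤ Subgroup.center M := fun x hx => by
    obtain ⟨σ, hσ, hσx⟩ := memT.1 hx
    refine Subgroup.mem_center_iff.2 fun y => Subtype.ext ?_
    show (y : G) * x = x * y
    rw [← hσx]
    exact (commM y.2 σ hσ).eq
  have hTn : T.Normal := ⟨fun x hx m => by
    rw [Subgroup.mem_center_iff.1 (hTc hx) m, mul_inv_cancel_right]; exact hx⟩
  have hT2 : ∀ x ∈ T, x ^ 2 = 1 := fun x hx => by
    obtain ⟨σ, hσ, hσx⟩ := memT.1 hx
    refine Subtype.ext ?_
    show (x : G) ^ 2 = 1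
    rw [← hσx, pow_two, ← map_mul, (tri_list σ hσ).2.1, map_one]
  have huM : u ∈ M := memM.2 ⟨(P.cent _).symm, (P.cent _).symm, (P.cent _).symm⟩
  have haM : S.a 1 ∈ M := memM.2 ⟨(P.cross _).1.symm, (P.cross _).1.symm, (P.cross _).1.symm⟩
  let q := QuotientGroup.mk' T
  set uM : M := ⟨u, huM⟩
  -- the plane acting
  let f : ZMod 3 × ZMod 3 → G := fun a => C.pt (a.2, a.1, a.2)
  let A : Subgroup G :=
    { carrier := Set.range f
      one_mem' := ⟨0, C.pt_zero⟩
      mul_mem' := by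
        rintro _ _ ⟨a, rfl⟩ ⟨b, rfl⟩
        exact ⟨a + b, by simp only [f, Prod.fst_add, Prod.snd_add, ← C.pt_add, Prod.mk_add_mk]⟩
      inv_mem' := by
        rintro _ ⟨a, rfl⟩
        exact ⟨-a, by simp only [f, Prod.fst_neg, Prod.snd_neg, ← C.pt_neg, Prod.neg_mk]⟩ }
  have hAJ : A ≤ C.J := by rintro _ ⟨a, rfl⟩; exact ⟨_, rfl⟩
  have hAp : IsPGroup 3 A := C.isPGroup_J.to_le hAJ
  have hρ : P.φ rho = C.pt (bas 0) * C.pt (bas 2) := by rw [map_mul, P.pt_i.1, P.pt_i.2]
  have hAconj : ∀ a ∈ A, ∀ σ, TriStd σ → ∃ σ', TriStd σ' ∧ a * P.φ σ * a⁻¹ = P.φ σ' := by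
    rintro _ ⟨⟨i, j⟩, rfl⟩
    have hv : ((j, i, j) : V) = i.val • e1 + j.val • (e0 + e2) :=
      (by decide +kernel : ∀ i j : ZMod 3, ((j, i, j) : V) = i.val • e1 + j.val • (e0 + e2)) i j
    have hpow : ∀ (n : ℕ) (v : V), C.pt (n • v) = C.pt v ^ n := fun n v => by
      induction n with
      | zero => rw [zero_smul, C.pt_zero, pow_zero]
      | succ n ih => rw [succ_nsmul, C.pt_add, ih, pow_succ]
    intro σ hσ
    obtain ⟨σ', hσ', hσ''⟩ : ∃ σ', TriStd σ' ∧ σ' = rho ^ j.val * σ * (rho ^ j.val)⁻¹ := by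
      refine ⟨_, ?_, rfl⟩
      induction j.val with
      | zero => simpa using hσ
      | succ n ih =>
        have := (tri_list _ ih).2.2
        rwa [show rho ^ (n + 1) * σ * (rho ^ (n + 1))⁻¹ = rho * (rho ^ n * σ * (rho ^ n)⁻¹) * rho⁻¹
          by rw [pow_succ', mul_inv_rev]; simp only [mul_assoc]]
    refine ⟨σ', hσ', ?_⟩
    have hc : Commute (C.pt (bas 1) ^ i.val) (P.φ σ') := ((P.cent σ').symm).pow_left _
    show C.pt (j, i, j) * P.φ σ * (C.pt (j, i, j))⁻¹ = P.φ σ'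
    rw [hv, C.pt_add, hpow, hpow, C.pt_add, show C.pt e0 * C.pt e2 = P.φ rho from hρ.symm,
      show C.pt e1 = C.pt (bas 1) from rfl, ← map_pow]
    calc C.pt (bas 1) ^ i.val * P.φ (rho ^ j.val) * P.φ σ *
          (C.pt (bas 1) ^ i.val * P.φ (rho ^ j.val))⁻¹
        = C.pt (bas 1) ^ i.val * (P.φ (rho ^ j.val) * P.φ σ * (P.φ (rho ^ j.val))⁻¹) *
          (C.pt (bas 1) ^ i.val)⁻¹ := by group
      _ = P.φ σ' := by rw [← map_inv, ← map_mul, ← map_mul, ← hσ'', hc.eq, mul_inv_cancel_right]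
  have hAM : ∀ a ∈ A, ∀ x ∈ M, a * x * a⁻¹ ∈ M := by
    intro a ha x hx
    have key : ∀ σ, TriStd σ → Commute (a * x * a⁻¹) (P.φ σ) := by
      intro σ hσ
      obtain ⟨σ', hσ', he⟩ := hAconj a⁻¹ (A.inv_mem ha) σ hσ
      have h' := (Commute.conj_iff a).2 (commM hx σ' hσ')
      rwa [← he, inv_inv, show a * (a⁻¹ * P.φ σ * a) * a⁻¹ = P.φ σ by group] at h'
    exact memM.2 ⟨key _ (by decide +kernel), key _ (by decide +kernel), key _ (by decide +kernel)⟩
  have hAN : A ≤ Subgroup.normalizer (M : Set G) := fun a ha => Subgroup.mem_normalizer_iff.2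
    fun x => ⟨hAM a ha x, fun hx => by
      have := hAM a⁻¹ (A.inv_mem ha) _ hx
      rwa [inv_inv, show a⁻¹ * (a * x * a⁻¹) * a = x by group] at this⟩
  let ψ₀ : A →* MulAut M := M.normalizerMonoidHom.comp (Subgroup.inclusion hAN)
  have hψ₀ : ∀ (a : A) (x : M), ((ψ₀ a x : M) : G) = a * x * (a : G)⁻¹ := fun a x => rfl
  have hψT : ∀ a : A, T.map (ψ₀ a).toMonoidHom = T := fun a => by
    refine Subgroup.eq_of_le_of_card_ge ?_ (Subgroup.card_map_of_injective (ψ₀ a).injective).ge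
    rintro _ ⟨x, hx, rfl⟩
    obtain ⟨σ, hσ, hσx⟩ := memT.1 hx
    obtain ⟨σ', hσ', he⟩ := hAconj a a.2 σ hσ
    exact memT.2 ⟨σ', hσ', by rw [← he, hσx]; exact (hψ₀ a x).symm⟩
  let ψ : A →* MulAut (M ⧸ T) :=
    { toFun := fun a => QuotientGroup.congr T T (ψ₀ a) (hψT a)
      map_one' := by
        refine MulEquiv.ext fun y => ?_
        obtain ⟨x, rfl⟩ := QuotientGroup.mk_surjective y
        simp [QuotientGroup.congr_mk]
      map_mul' := fun a b => by
        refine MulEquiv.ext fun y => ?_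
        obtain ⟨x, rfl⟩ := QuotientGroup.mk_surjective y
        simp [QuotientGroup.congr_mk]
        rfl }
  have hψ : ∀ (a : A) (x : M), ψ a (q x) = q (ψ₀ a x) := fun a x => rfl
  set Y : Subgroup (M ⧸ T) := Subgroup.zpowers (q uM) with hY
  have u_notin : ∀ σ, P.φ σ ∈ Subgroup.zpowers u → σ = 1 := P.inj
  have hYc : Nat.card Y = 3 := by
    have : Fact (Nat.Prime 3) := ⟨Nat.prime_three⟩
    rw [hY, Nat.card_zpowers, orderOf_eq_prime_iff]
    refine ⟨by rw [← map_pow, ← map_one q]; exact congrArg q (Subtype.ext (C.pt_cube _)),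
      fun e => C.pt_ne_one (bas_facts 1).1 ?_⟩
    obtain ⟨σ, -, hσ⟩ := memT.1 ((QuotientGroup.eq_one_iff _).1 e)
    have hσ1 := u_notin σ (by rw [hσ]; exact Subgroup.mem_zpowers u)
    rw [hσ1, map_one] at hσ
    exact hσ.symm
  have inY : ∀ x : M, Commute (x : G) u → q x ∈ Y := by
    intro x hx
    obtain ⟨σ, z, hz, hxe⟩ := P.surj x hx
    have hzc : ∀ τ, Commute z (P.φ τ) := fun τ => by
      obtain ⟨t, rfl⟩ := Subgroup.mem_zpowers_iff.1 hz
      exact (P.cent τ).symm.zpow_left t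
    have hσ3 : TriStd σ := by
      have key : ∀ τ, Commute (x : G) (P.φ τ) → σ * τ = τ * σ := fun τ hτ => by
        rw [hxe] at hτ
        rw [← mul_inv_eq_one]
        refine P.map_eq_one ?_
        have e : P.φ σ * P.φ τ = P.φ τ * P.φ σ := by
          have h' := hτ.mul_left ((hzc τ).inv_left)
          rw [mul_inv_cancel_right] at h'
          exact h'.eq
        rw [map_mul, map_inv, map_mul, map_mul, e, mul_inv_cancel]
      obtain ⟨q1, q2, q3⟩ := memM.1 x.2
      exact ⟨key _ q1, key _ q2, key _ q3⟩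
    obtain ⟨t, ht⟩ := Subgroup.mem_zpowers_iff.1 hz
    refine Subgroup.mem_zpowers_iff.2 ⟨t, ?_⟩
    rw [← map_zpow]
    refine (QuotientGroup.eq).2 (memT.2 ⟨σ, hσ3, ?_⟩)
    show P.φ σ = (((uM ^ t)⁻¹ * x : M) : G)
    rw [Subgroup.coe_mul, Subgroup.coe_inv, SubgroupClass.coe_zpow, hxe,
      show ((uM : M) : G) ^ t = z from ht, (hzc σ).symm.eq, inv_mul_cancel_left]
  have hcent : Subgroup.centralizer (Y : Set (M ⧸ T)) = Y := by
    refine le_antisymm (fun y hy => ?_) (Subgroup.le_centralizer Y)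
    obtain ⟨x, rfl⟩ := QuotientGroup.mk'_surjective T y
    have he := Subgroup.mem_centralizer_iff.1 hy _ (Subgroup.mem_zpowers (q uM))
    have hz : q (uM⁻¹ * x * uM * x⁻¹) = 1 := by
      simp only [map_mul, map_inv]
      rw [mul_assoc (q uM)⁻¹, ← he, inv_mul_cancel_left, mul_inv_cancel]
    obtain ⟨σ, hσ, hσe⟩ := memT.1 ((QuotientGroup.eq_one_iff _).1 hz)
    refine inY x ?_
    have hxu : (x : G) * u * (x : G)⁻¹ = u * P.φ σ := by rw [hσe]; simp [uM]; group
    have h3 : P.φ σ * P.φ σ * P.φ σ = 1 := by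
      have h := congrArg (· ^ 3) hxu
      simp only [conj_pow, hu, C.pt_cube, mul_one, mul_inv_cancel, ((P.cent σ).symm).mul_pow,
        one_mul] at h
      rw [pow_succ, pow_two] at h
      exact h.symm
    rw [← map_mul, (tri_list σ hσ).2.1, map_one, one_mul] at h3
    rw [h3, mul_one] at hxu
    exact mul_inv_eq_iff_eq_mul.1 hxu
  rcases card_dvd_six_or_exists_invariant hAp ψ hYc hcent with hd | hR
  · let e : Fin 3 × Bool → M ⧸ T := fun x =>
      q uM ^ (x.1 : ℕ) * if x.2 then q ⟨S.a 1, haM⟩ else 1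
    have hainv : S.a 1 * u * S.a 1 = u⁻¹ := by rw [hu, S.a_conj, (flip1_facts 1 1).2.1, C.pt_neg]
    have haY : q ⟨S.a 1, haM⟩ ∉ Y := fun h => by
      obtain ⟨t, ht⟩ := Subgroup.mem_zpowers_iff.1 h
      rw [← map_zpow] at ht
      obtain ⟨σ, -, hσ⟩ := memT.1 (QuotientGroup.eq.1 ht)
      rw [Subgroup.coe_mul, Subgroup.coe_inv, SubgroupClass.coe_zpow] at hσ
      have hc : Commute (S.a 1) u := by
        have : S.a 1 = u ^ t * P.φ σ := by rw [hσ]; simp [uM]
        rw [this]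
        exact ((Commute.refl u).zpow_left t).mul_left (P.cent σ)
      rw [hc.eq, mul_assoc, S.sq, mul_one] at hainv
      exact C.pt_ne_one (bas_facts 1).1 (by
        have h3 := C.pt_cube (bas 1)
        rw [pow_succ, pow_two, ← hu, mul_eq_one_iff_eq_inv, ← hainv] at h3
        exact mul_eq_left.1 h3)
    have hinj : Function.Injective e := by
      have : Fact (Nat.Prime 3) := ⟨Nat.prime_three⟩
      have hord : orderOf (q uM) = 3 := by rw [← Nat.card_zpowers]; exact hYc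
      have hpow : ∀ a b : Fin 3, q uM ^ (a : ℕ) = q uM ^ (b : ℕ) → a = b := fun a b h =>
        Fin.ext (pow_injOn_Iio_orderOf (by rw [Set.mem_Iio, hord]; exact a.2)
          (by rw [Set.mem_Iio, hord]; exact b.2) h)
      have hYp : ∀ a : Fin 3, q uM ^ (a : ℕ) ∈ Y := fun a => pow_mem (Subgroup.mem_zpowers _) _
      rintro ⟨a, _ | _⟩ ⟨b, _ | _⟩ h <;> simp only [e, Bool.false_eq_true, if_false, if_true, mul_one] at h
      · rw [hpow a b h]
      · exfalso
        refine haY ?_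
        rw [← inv_mul_cancel_left (q uM ^ (b : ℕ)) (q ⟨S.a 1, haM⟩), ← h]
        exact Y.mul_mem (Y.inv_mem (hYp b)) (hYp a)
      · exfalso
        refine haY ?_
        rw [← inv_mul_cancel_left (q uM ^ (a : ℕ)) (q ⟨S.a 1, haM⟩), h]
        exact Y.mul_mem (Y.inv_mem (hYp a)) (hYp b)
      · rw [hpow a b (mul_right_cancel h)]
    have hle : Nat.card (M ⧸ T) ≤ Nat.card (Fin 3 × Bool) := by
      simpa using Nat.le_of_dvd (by norm_num) hd
    obtain ⟨⟨i, b⟩, hib⟩ := (hinj.bijective_of_nat_card_le hle).2 (q ⟨g, memM.2 ⟨h1, h2, h3⟩⟩)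
    have hmk : ∀ y : M, q y = q ⟨g, memM.2 ⟨h1, h2, h3⟩⟩ →
        ∃ σ, TriStd σ ∧ g = P.φ σ * y := fun y hy => by
      obtain ⟨σ, hσ, hσe⟩ := memT.1 (QuotientGroup.eq.1 hy)
      refine ⟨σ, hσ, ?_⟩
      have hcc : Commute (y : G) (P.φ σ) := commM y.2 σ hσ
      rw [← hcc.eq, hσe]
      simp
    cases b
    · obtain ⟨σ, hσ, hge⟩ := hmk (uM ^ (i : ℕ)) (by simpa [e] using hib)
      exact ⟨σ, i, hσ, Or.inl (by rw [hge]; rfl)⟩
    · obtain ⟨σ, hσ, hge⟩ := hmk (uM ^ (i : ℕ) * ⟨S.a 1, haM⟩) (by simpa [e] using hib)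
      exact ⟨σ, i, hσ, Or.inr (by rw [hge]; show P.φ σ * (u ^ (i : ℕ) * S.a 1) = _; rw [mul_assoc])⟩
  · exfalso
    obtain ⟨p, R, hp, hp3, hRp, hRne, hRinv⟩ := hR
    have : Fact p.Prime := ⟨hp⟩
    set R' := R.comap q with hR'
    have hinvR : ∀ a : A, R'.map (ψ₀ a).toMonoidHom = R' := fun a => by
      refine Subgroup.eq_of_le_of_card_ge ?_ (Subgroup.card_map_of_injective (ψ₀ a).injective).ge
      rintro _ ⟨x, hx, rfl⟩
      show q (ψ₀ a x) ∈ R
      rw [← hRinv a]
      exact ⟨q x, hx, hψ a x⟩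
    -- an invariant `p`-group of the preimage
    obtain ⟨K, hKp, hKT, hKle, hKinv⟩ : ∃ K : Subgroup M, IsPGroup p K ∧ ¬ K ≤ T ∧ K ≤ R' ∧
        ∀ a : A, K.map (ψ₀ a).toMonoidHom = K := by
      by_cases hp2 : p = 2
      · subst hp2
        refine ⟨R', hRp.comap_of_ker_isPGroup q ?_, fun hle => hRne ?_, le_rfl, hinvR⟩
        · intro x
          exact ⟨1, Subtype.ext (hT2 x ((QuotientGroup.eq_one_iff _).1 x.2))⟩
        · rw [eq_bot_iff]
          intro y hy
          obtain ⟨x, rfl⟩ := QuotientGroup.mk'_surjective T y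
          exact Subgroup.mem_bot.2 ((QuotientGroup.eq_one_iff _).2 (hle hy))
      · obtain ⟨K, hKp, hKne, hKle, hK⟩ := exists_lift_invariant T hTc R hRp hRne
        refine ⟨K, hKp, fun hle => hKne ?_, hKle, fun a => hK _ (hinvR a)⟩
        rw [Subgroup.eq_bot_iff_forall]
        intro x hx
        obtain ⟨n, hn⟩ := hKp ⟨x, hx⟩
        have hn' : x ^ p ^ n = 1 := congrArg Subtype.val hn
        have hg : orderOf x ∣ Nat.gcd 2 (p ^ n) :=
          Nat.dvd_gcd (orderOf_dvd_of_pow_eq_one (hT2 x (hle hx))) (orderOf_dvd_of_pow_eq_one hn')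
        rw [show Nat.gcd 2 (p ^ n) = 1 from Nat.Coprime.pow_right n
          ((Nat.coprime_primes Nat.prime_two hp).2 (Ne.symm hp2))] at hg
        exact orderOf_eq_one_iff.1 (Nat.dvd_one.1 hg)
    set K' := K.map M.subtype with hK'
    have hAK : ∀ a ∈ A, ∀ x ∈ K', a * x * a⁻¹ ∈ K' := by
      rintro a ha _ ⟨x, hx, rfl⟩
      exact ⟨ψ₀ ⟨a, ha⟩ x, (hKinv ⟨a, ha⟩).le ⟨x, hx, rfl⟩, rfl⟩
    have hAK' : A ≤ Subgroup.normalizer (K' : Set G) := fun a ha => Subgroup.mem_normalizer_iff.2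
      fun x => ⟨hAK a ha x, fun hx => by
        have := hAK a⁻¹ (A.inv_mem ha) _ hx
        rwa [inv_inv, show a⁻¹ * (a * x * a⁻¹) * a = x by group] at this⟩
    obtain ⟨n, hn⟩ := (hKp.map M.subtype).exists_card_eq
    obtain ⟨n', hn'⟩ := hAp.exists_card_eq
    have hcop : (Nat.card A).Coprime (Nat.card K') := by
      rw [hn', hn]
      exact Nat.Coprime.pow n' n ((Nat.coprime_primes Nat.prime_three hp).2 (Ne.symm hp3))
    have hfi : Function.Injective f := fun a b h => by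
      have := C.pt_inj h
      simp only [Prod.mk.injEq] at this
      exact Prod.ext this.2.1 this.1
    have hnc : ¬ IsCyclic A := fun hc => by
      obtain ⟨⟨y, hy⟩, hgen⟩ := hc.exists_generator
      have h9 : Nat.card A = 9 := (Nat.card_range_of_injective hfi).trans (by simp)
      have hle : Nat.card A ≤ 3 := by
        refine (Subgroup.card_le_of_le (H := A) (K := Subgroup.zpowers y) fun x hx => ?_).trans ?_
        · obtain ⟨t, ht⟩ := Subgroup.mem_zpowers_iff.1 (hgen ⟨x, hx⟩)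
          exact Subgroup.mem_zpowers_iff.2 ⟨t, by simpa using congrArg Subtype.val ht⟩
        · obtain ⟨v, rfl⟩ := hAJ hy
          rw [Nat.card_zpowers]
          exact Nat.le_of_dvd (by norm_num) (orderOf_dvd_of_pow_eq_one (C.pt_cube v))
      omega
    have hAc : IsMulCommutative A := ⟨⟨fun a b => Subtype.ext (by
      obtain ⟨a', ha'⟩ := hAJ a.2
      obtain ⟨b', hb'⟩ := hAJ b.2
      show (a : G) * b = b * a
      rw [← ha', ← hb']
      exact (C.commute_pt a' b').eq)⟩⟩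
    have hKu : ∀ x ∈ K', Commute x u := by
      intro x hx
      have hle : K' ≤ Subgroup.centralizer ({u} : Set G) := by
        rw [← CfsgLib.Coprime.iSup_centralizer_eq hAc hnc hAK' hcop]
        refine iSup_le fun ⟨a, ha, ha1⟩ => ?_
        obtain ⟨⟨i, j⟩, rfl⟩ := ha
        rintro y ⟨hy, hya⟩
        refine Subgroup.mem_centralizer_singleton_iff.2 ?_
        have hya' : Commute y (C.pt (j, i, j)) := Subgroup.mem_centralizer_singleton_iff.1 hya
        by_cases hl : inLine e1 (j, i, j) = true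
        · rcases inLine_iff.1 hl with h | h | h
          · exact absurd (show f (i, j) = 1 by rw [← C.pt_zero, ← h]) ha1
          · rw [h] at hya'; exact hya'
          · rw [h, C.pt_neg] at hya'
            have h' := hya'.inv_right
            rw [inv_inv] at h'
            exact h'.eq
        · have hN := hs.middle _ (plane_facts i j hl) y hya'
          obtain ⟨w, hw⟩ := hN (bas 1)
          have hel : y * u * y⁻¹ * u⁻¹ ∈ C.J ⊓ K' := by
            refine ⟨C.J.mul_mem ⟨w, hw.symm⟩ (C.J.inv_mem ⟨_, rfl⟩), ?_⟩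
            rw [show y * u * y⁻¹ * u⁻¹ = y * (u * y⁻¹ * u⁻¹) by group]
            exact K'.mul_mem hy (hAK u ⟨(1, 0), rfl⟩ _ (K'.inv_mem hy))
          have hb : C.J ⊓ K' = ⊥ := Subgroup.inf_eq_bot_of_coprime (by
            rw [C.card_J, hn]
            exact Nat.Coprime.pow 3 n ((Nat.coprime_primes Nat.prime_three hp).2 (Ne.symm hp3)))
          rw [hb, Subgroup.mem_bot, mul_inv_eq_one, mul_inv_eq_iff_eq_mul] at hel
          exact hel
      exact Subgroup.mem_centralizer_singleton_iff.1 (hle hx)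
    refine hKT fun x hx => (QuotientGroup.eq_one_iff x).1 ?_
    have hxY := inY x (hKu _ ⟨x, hx, rfl⟩)
    have hxR : q x ∈ R := hKle hx
    have hb : Y ⊓ R = ⊥ := Subgroup.inf_eq_bot_of_coprime (by
      obtain ⟨k, hk⟩ := hRp.exists_card_eq
      rw [hYc, hk]
      exact Nat.Coprime.pow_right k ((Nat.coprime_primes Nat.prime_three hp).2 (Ne.symm hp3)))
    exact Subgroup.mem_bot.1 (hb ▸ (⟨hxY, hxR⟩ : q x ∈ Y ⊓ R))

/-- The centraliser of the middle and the two outer transpositions. -/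
theorem exists_form_mid [Finite G] (hs : C.SixCase) (P : Pair S 1 0 2) {g : G}
    (h1 : Commute g (P.φ (swap 2 3))) (h2 : Commute g (P.φ (swap 0 1)))
    (h3 : Commute g (P.φ (swap 4 5))) :
    ∃ (σ : Perm (Fin 6)) (i : ℕ), TriMid σ ∧
      (g = P.φ σ * C.pt (bas 1) ^ i ∨ g = P.φ σ * C.pt (bas 1) ^ i * S.a 1) := by
  obtain ⟨σ', e1', e2', e3'⟩ := mid_conj
  set h := P.φ σ' with hh
  have conv : ∀ {τ τ' : Perm (Fin 6)}, σ' * τ * σ'⁻¹ = τ' → Commute g (P.φ τ) →
      Commute (h * g * h⁻¹) (P.φ τ') := fun {τ τ'} he hg => by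
    rw [← he, map_mul, map_mul, map_inv]
    exact (Commute.conj_iff h).2 hg
  obtain ⟨σ, i, hσ, hg⟩ := exists_form_std hs P (conv e1' h1) (conv e2' h2) (conv e3' h3)
  refine ⟨σ'⁻¹ * σ * σ', i, ?_, ?_⟩
  · have key : ∀ {τ τ' : Perm (Fin 6)}, σ' * τ * σ'⁻¹ = τ' → σ * τ' = τ' * σ →
        σ'⁻¹ * σ * σ' * τ = τ * (σ'⁻¹ * σ * σ') := fun {τ τ'} he hτ => by
      subst he
      calc σ'⁻¹ * σ * σ' * τ = σ'⁻¹ * (σ * (σ' * τ * σ'⁻¹)) * σ' := by group
        _ = _ := by rw [hτ]; group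
    exact ⟨key e1' hσ.1, key e2' hσ.2.1, key e3' hσ.2.2⟩
  · have hu : Commute (C.pt (bas 1) ^ i) h := (P.cent σ').symm.pow_left i
    have ha : Commute (S.a 1) h := (P.cross σ').1.symm
    rcases hg with hg | hg
    · left
      calc g = h⁻¹ * (h * g * h⁻¹) * h := by group
        _ = h⁻¹ * P.φ σ * (C.pt (bas 1) ^ i * h) := by rw [hg]; group
        _ = _ := by
          rw [hu.eq, map_mul, map_mul, map_inv]
          simp only [mul_assoc]
          rfl
    · right
      calc g = h⁻¹ * (h * g * h⁻¹) * h := by group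
        _ = h⁻¹ * P.φ σ * (C.pt (bas 1) ^ i * S.a 1 * h) := by rw [hg]; group
        _ = _ := by
          rw [(hu.mul_left ha).eq, map_mul, map_mul, map_inv]
          simp only [mul_assoc]
          rfl

end CfsgLib.Recog.SymNine
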